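import Groth.Agent.L03.Heun.Pencil
import Mathlib.RingTheory.Polynomial.Basic

/-!
# The pencil of an eigenpolynomial
-/

set_option autoImplicit false
universe u

open Polynomial

namespace Groth.L03.Heun

variable {k : Type u} [Field k]

/-- the polynomial with given coefficients -/
noncomputable def polyOf (R : ℕ) (v : ℕ → k) : k[X] := ∑ j ∈ Finset.range (R + 1), monomial j (v j)

theorem coeff_polyOf (R : ℕ) (v : ℕ → k) (hv : Supp 0 (R + 1) v) : (polyOf R v).coeff = v := by
  funext j
  simp only [polyOf, finsetSum_coeff, coeff_monomial, Finset.sum_ite_eq', Finset.mem_range]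
  split_ifs with h
  · rfl
  · exact (hv j (by omega)).symm

variable {c : Par} {μ ν q : k} (H : Hyp k c)
include H

theorem exists_eigenpoly (hg : Good c μ ν) (hq : Sp c μ ν c.l c.r q) :
    ∃ F : k[X], F.natDegree = c.R ∧ F ≠ 0 ∧ F.eval 0 ≠ 0 ∧ L c μ ν F = C q * F ∧ F.coeff c.l ≠ 0 := by
  obtain ⟨v, hker, hvl⟩ := exists_ker H hg hq
  obtain ⟨h0, hR⟩ := ker_endpoints H hg hq hker hvl
  have hc := coeff_polyOf c.R v hker.1
  refine ⟨polyOf c.R v, natDegree_eq_of_le_of_coeff_ne_zero ?_ (by rw [hc]; exact hR),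
    fun h => hR (by rw [← hc, h, coeff_zero]), by rw [← coeff_zero_eq_eval_zero, hc]; exact h0, ?_, by rw [hc]; exact hvl⟩
  · rw [natDegree_le_iff_coeff_eq_zero]
    intro N hN
    rw [hc]; exact hker.1 N (by omega)
  · ext j
    rw [coeff_L c μ ν H.cast_sum, coeff_C_mul, hc]
    rcases Nat.lt_or_ge j (c.R + 1) with hj | hj
    · exact hker.2 j (Nat.zero_le _) hj
    · rw [op, if_neg (by omega), hker.1 j (by omega), hker.1 (j + 1) (by omega)]
      rcases Nat.eq_or_lt_of_le (show c.R ≤ j - 1 by omega) with h | h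
      · rw [← h, cA_R]; ring
      · rw [hker.1 (j - 1) (by omega)]; ring

theorem eigenpoly_unique (hg : Good c μ ν) (hq : Sp c μ ν c.l c.r q) {F F' : k[X]} (hF : L c μ ν F = C q * F)
    (hF' : L c μ ν F' = C q * F') (hd : F.natDegree = c.R) (hd' : F'.natDegree = c.R) (hl : F.coeff c.l ≠ 0) :
    ∃ t, F' = C t * F := by
  have ker : ∀ P : k[X], L c μ ν P = C q * P → P.natDegree = c.R → IsKer c μ ν 0 (c.R + 1) q P.coeff :=
    fun P hP hPd => ⟨fun j hj => coeff_eq_zero_of_natDegree_lt (by omega),
      fun j _ _ => by rw [← coeff_L c μ ν H.cast_sum, hP, coeff_C_mul]⟩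
  have h := ker_smul_eq H hg hq (ker F hF hd) (ker F' hF' hd') hl
  refine ⟨F'.coeff c.l / F.coeff c.l, Polynomial.ext fun j => ?_⟩
  rw [coeff_C_mul, congrFun h j]; rfl

/-- An eigenpolynomial has simple roots away from the three finite singular points. -/
theorem eigenpoly_isCoprime [IsAlgClosed k] (hg : Good c μ ν) {F : k[X]} (hd : F.natDegree = c.R) (hF0 : F ≠ 0)
    (h0 : F.eval 0 ≠ 0) (hLF : L c μ ν F = C q * F) :
    IsCoprime F (derivative F) ∧ IsCoprime F (piPoly μ ν) := by
  have key : ∀ x, F.eval x = 0 → (derivative F).eval x ≠ 0 ∧ (piPoly μ ν).eval x ≠ 0 := by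
    intro x hx
    obtain ⟨Hq, hH, hHx⟩ := exists_eq_pow_rootMultiplicity_mul_and_not_dvd F hF0 x
    have hHx' : Hq.eval x ≠ 0 := fun h => hHx (dvd_iff_isRoot.2 h)
    obtain ⟨i, hi⟩ : ∃ i, F.rootMultiplicity x = i + 1 :=
      ⟨F.rootMultiplicity x - 1, by have := (rootMultiplicity_pos hF0).2 hx; omega⟩
    have hiR : i + 1 ≤ c.R := by
      have := natDegree_le_of_dvd (pow_rootMultiplicity_dvd F x) hF0
      rw [natDegree_pow, natDegree_X_sub_C, mul_one] at this
      omega
    rw [hi] at hH
    set U := C ((i + 1 : ℕ) : k) * Hq + (X - C x) * derivative Hq with hU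
    have d1 : derivative F = (X - C x) ^ i * U := by
      rw [hH, hU, derivative_mul, derivative_pow, derivative_sub, derivative_X, derivative_C, Nat.add_sub_cancel, pow_succ]
      ring
    have d2 : (X - C x) * derivative (derivative F) = (X - C x) ^ i * (C (i : k) * U + (X - C x) * derivative U) := by
      rw [d1, derivative_mul, mul_add, ← mul_assoc, sub_mul_derivative_pow]; ring
    have hUx : U.eval x ≠ 0 := by
      rw [hU]; simp only [eval_add, eval_mul, eval_C, eval_sub, eval_X, sub_self, zero_mul, add_zero]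
      exact mul_ne_zero (H.cast_ne_zero (by omega) (by have := H.R_lt; omega)) hHx'
    have hsplit : ∀ π1 : k[X], piPoly μ ν = (X - C x) * π1 →
        U.eval x * ((i : k) * π1.eval x - (rhoPoly c μ ν).eval x) = 0 := by
      intro π1 hπ
      have h : L c μ ν F = (X - C x) ^ i * (π1 * (C (i : k) * U + (X - C x) * derivative U) - rhoPoly c μ ν * U +
          C ((c.d : k) * c.R) * (X * ((X - C x) * Hq))) := by
        rw [L, hπ, d1, mul_comm (X - C x) π1, mul_assoc, ← d1, d2, d1, hH, pow_succ]; ring
      rw [hLF, hH, pow_succ] at h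
      have h' := congrArg (eval x) (mul_left_cancel₀ (pow_ne_zero i (X_sub_C_ne_zero x))
        (show (X - C x) ^ i * (C q * ((X - C x) * Hq)) = _ by rw [← h]; ring))
      simp only [eval_add, eval_mul, eval_C, eval_sub, eval_X, sub_self, zero_mul, mul_zero, add_zero] at h'
      linear_combination -h'
    have hm : (X - C x) * L c μ ν F = (X - C x) ^ i * (piPoly μ ν * (C (i : k) * U + (X - C x) * derivative U)
        - rhoPoly c μ ν * ((X - C x) * U) + C ((c.d : k) * c.R) * (X * ((X - C x) * ((X - C x) * Hq)))) := by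
      rw [L, mul_add, mul_sub, mul_left_comm (X - C x) (piPoly μ ν), d2, d1, hH, pow_succ]; ring
    obtain ⟨lt3, lt4⟩ := H.R_lt_e3
    have hp := H.R_lt
    have he := H.e_lt
    by_cases hxμ : x = μ
    · subst hxμ
      exfalso
      have h := (mul_eq_zero.1 (hsplit (X * (X - C ν)) (by rw [piPoly]; ring))).resolve_left hUx
      simp [rhoPoly] at h
      have h' : ((i : k) - ((c.e3 : k) - 1)) * (x * (x - ν)) = 0 := by linear_combination h
      have h'' := (mul_eq_zero.1 h').resolve_right (mul_ne_zero hg.hμ (sub_ne_zero.2 hg.hne))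
      have : ((i + 1 : ℕ) : k) = (c.e3 : ℕ) := by push_cast; linear_combination h''
      have := H.cast_inj (by omega) (by omega) this
      omega
    · by_cases hxν : x = ν
      · subst hxν
        exfalso
        have h := (mul_eq_zero.1 (hsplit (X * (X - C μ)) (by rw [piPoly]; ring))).resolve_left hUx
        simp [rhoPoly] at h
        have h' : ((i : k) - ((c.e4 : k) - 1)) * (x * (x - μ)) = 0 := by linear_combination h
        have h'' := (mul_eq_zero.1 h').resolve_right (mul_ne_zero hg.hν (sub_ne_zero.2 hg.hne.symm))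
        have : ((i + 1 : ℕ) : k) = (c.e4 : ℕ) := by push_cast; linear_combination h''
        have := H.cast_inj (by omega) (by omega) this
        omega
      · have hx0 : x ≠ 0 := fun h => h0 (h ▸ hx)
        have hπ : (piPoly μ ν).eval x ≠ 0 := by
          simp [piPoly, hx0, sub_ne_zero.2 hxμ, sub_ne_zero.2 hxν]
        refine ⟨?_, hπ⟩
        rw [hLF, hH, pow_succ] at hm
        have h' := congrArg (eval x) (mul_left_cancel₀ (pow_ne_zero i (X_sub_C_ne_zero x))
          (show (X - C x) ^ i * (C q * ((X - C x) * ((X - C x) * Hq))) = _ by rw [← hm]; ring))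
        simp only [eval_add, eval_mul, eval_C, eval_sub, eval_X, sub_self, zero_mul, mul_zero, add_zero, sub_zero] at h'
        have hi0 : i = 0 := by
          by_contra hne
          have := (mul_eq_zero.1 h'.symm).resolve_left hπ
          exact H.cast_ne_zero (Nat.pos_of_ne_zero hne) (by omega) ((mul_eq_zero.1 this).resolve_right hUx)
        rw [d1, hi0, pow_zero, one_mul]
        exact hUx
  exact ⟨isCoprime_of_no_common_root hF0 fun x hx => (key x hx).1,
    isCoprime_of_no_common_root hF0 fun x hx => (key x hx).2⟩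

omit H in
/-- the Wronskian against a fixed polynomial, as a linear map -/
noncomputable def wLeft (F : k[X]) : k[X] →ₗ[k] k[X] :=
  { toFun := fun G => wronskian F G
    map_add' := fun a b => by simp only [wronskian, derivative_add]; ring
    map_smul' := fun t a => by simp only [wronskian, smul_eq_C_mul, derivative_C_mul, RingHom.id_apply]; ring }

theorem wronskian_eq_zero_iff {F G : k[X]} (hd : F.natDegree = c.R) (hcop : IsCoprime F (derivative F))
    (hG : G.natDegree ≤ c.d) (hF0 : F ≠ 0) (h : wronskian F G = 0) : ∃ t, G = C t * F := by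
  haveI := H.hchar
  have hdvd : F ∣ G := hcop.dvd_of_dvd_mul_left ⟨derivative G, by rw [wronskian, sub_eq_zero] at h; exact h.symm⟩
  obtain ⟨h1, rfl⟩ := hdvd
  rcases eq_or_ne h1 0 with rfl | hh
  · exact ⟨0, by simp⟩
  have hder : derivative h1 = 0 := by
    have e : F * F * derivative h1 = 0 := by rw [← h, wronskian, derivative_mul]; ring
    exact (mul_eq_zero.1 e).resolve_left (mul_ne_zero hF0 hF0)
  have hlen : h1.natDegree ≤ c.d - c.R := by rw [natDegree_mul hF0 hh] at hG; omega
  have hconst : h1.natDegree = 0 := by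
    by_contra hne
    have hc := congrArg (fun r => r.coeff (h1.natDegree - 1)) hder
    simp only [coeff_derivative, coeff_zero, show h1.natDegree - 1 + 1 = h1.natDegree by omega,
      ← Nat.cast_succ, Nat.succ_eq_add_one] at hc
    rcases mul_eq_zero.1 hc with h | h
    · exact hh (leadingCoeff_eq_zero.1 h)
    · exact H.cast_ne_zero (m := h1.natDegree) (by omega) (by have := H.hp; omega) h
  exact ⟨h1.coeff 0, by rw [mul_comm]; congr 1; exact eq_C_of_natDegree_eq_zero hconst⟩

theorem exists_partner [IsAlgClosed k] (hg : Good c μ ν) {F : k[X]} (hd : F.natDegree = c.R) (hF0 : F ≠ 0)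
    (h0 : F.eval 0 ≠ 0) (hLF : L c μ ν F = C q * F) :
    ∃ G : k[X], G.natDegree ≤ c.d ∧ wronskian F G = W0 c μ ν := by
  haveI := H.hchar
  obtain ⟨hcop, hπ⟩ := eigenpoly_isCoprime H hg hd hF0 h0 hLF
  set n := c.R + c.d with hn
  let D : Submodule k k[X] := degreeLT k n
  let E : Submodule k k[X] := degreeLT k (c.d + 1)
  haveI : FiniteDimensional k D := Module.Finite.equiv (degreeLTEquiv k n).symm
  haveI : FiniteDimensional k E := Module.Finite.equiv (degreeLTEquiv k (c.d + 1)).symm
  have hD : Module.finrank k D = n := by rw [(degreeLTEquiv k n).finrank_eq, Module.finrank_fin_fun]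
  have hE : Module.finrank k E = c.d + 1 := by rw [(degreeLTEquiv k _).finrank_eq, Module.finrank_fin_fun]
  let ψ : k[X] →ₗ[k] AdjoinRoot F :=
    { toFun := fun h => AdjoinRoot.mk F (derivative h * derivative F - h * derivative (derivative F))
      map_add' := fun a b => by rw [← map_add]; congr 1; rw [derivative_add]; ring
      map_smul' := fun t a => by
        rw [RingHom.id_apply, AdjoinRoot.smul_mk]; congr 1
        rw [smul_eq_C_mul, derivative_C_mul, smul_eq_C_mul]; ring }
  have hψ : ∀ {h : k[X]}, ψ h = 0 ↔ F ∣ derivative h * derivative F - h * derivative (derivative F) :=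
    AdjoinRoot.mk_eq_zero
  haveI : FiniteDimensional k (AdjoinRoot F) := (AdjoinRoot.powerBasis hF0).finite
  have hdimA : Module.finrank k (AdjoinRoot F) = c.R := by
    rw [(AdjoinRoot.powerBasis hF0).finrank, AdjoinRoot.powerBasis_dim, hd]
  have hsurj : Function.Surjective (ψ.comp D.subtype) := by
    intro z
    obtain ⟨g, rfl⟩ := AdjoinRoot.mk_surjective z
    obtain ⟨a, b, hab⟩ := (hcop.pow_right (n := 2))
    have hu : (g * b % F).degree < (F.natDegree : WithBot ℕ) := by
      rw [← degree_eq_natDegree hF0]; exact EuclideanDomain.mod_lt _ hF0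
    refine ⟨⟨F * (g * b % F), mem_degreeLT.2 ?_⟩, ?_⟩
    · rcases eq_or_ne (g * b % F) 0 with h | h
      · rw [h, mul_zero, degree_zero]; exact WithBot.bot_lt_coe _
      · rw [degree_mul, degree_eq_natDegree hF0, degree_eq_natDegree h, ← Nat.cast_add, Nat.cast_lt, hn]
        rw [degree_eq_natDegree h, Nat.cast_lt] at hu
        have := H.R_two
        omega
    · change ψ (F * (g * b % F)) = _
      change AdjoinRoot.mk F _ = AdjoinRoot.mk F g
      rw [AdjoinRoot.mk_eq_mk]
      have hm := EuclideanDomain.div_add_mod (g * b) F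
      refine ⟨derivative (g * b % F) * derivative F - (g * b % F) * derivative (derivative F) -
        (g * b / F) * derivative F ^ 2 - g * a, ?_⟩
      rw [derivative_mul]
      linear_combination (derivative F ^ 2) * hm + g * hab
  have hK : Module.finrank k (LinearMap.ker (ψ.comp D.subtype)) = c.d := by
    have h := LinearMap.finrank_range_add_finrank_ker (ψ.comp D.subtype)
    rw [LinearMap.range_eq_top.2 hsurj, finrank_top, hdimA, hD] at h
    omega
  let T := (wLeft F).comp E.subtype
  have hdE : ∀ G : E, (G : k[X]).natDegree ≤ c.d := fun G => by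
    rcases eq_or_ne (G : k[X]) 0 with h | h
    · simp [h]
    · have := mem_degreeLT.1 G.2
      rw [degree_eq_natDegree h, Nat.cast_lt] at this
      omega
  have hker : Module.finrank k (LinearMap.ker T) ≤ 1 := by
    have hFE : F ∈ E := mem_degreeLT.2 (by
      rw [degree_eq_natDegree hF0, Nat.cast_lt]; have := H.R_two; omega)
    refine (Submodule.finrank_mono (t := Submodule.span k {(⟨F, hFE⟩ : E)}) fun G hG => ?_).trans
      (finrank_span_singleton (fun h => hF0 (congrArg Subtype.val h))).le
    obtain ⟨t, ht⟩ := wronskian_eq_zero_iff H hd hcop (hdE G) hF0 (LinearMap.mem_ker.1 hG)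
    exact Submodule.mem_span_singleton.2 ⟨t, Subtype.ext (by rw [ht]; simp [smul_eq_C_mul])⟩
  have hle : LinearMap.range T ≤ (LinearMap.ker (ψ.comp D.subtype)).map D.subtype := by
    rintro _ ⟨G, rfl⟩
    have hmem : wronskian F (G : k[X]) ∈ D := by
      rw [mem_degreeLT]
      rcases eq_or_ne (wronskian F (G : k[X])) 0 with h | h
      · rw [h, degree_zero]; exact WithBot.bot_lt_coe _
      · rw [degree_eq_natDegree h, Nat.cast_lt]
        have := natDegree_wronskian_lt_add h
        have := hdE G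
        omega
    refine ⟨⟨_, hmem⟩, LinearMap.mem_ker.2 (hψ.2 ?_), rfl⟩
    exact ⟨derivative (derivative (G : k[X])) * derivative F - derivative (derivative F) * derivative (G : k[X]), by
      simp only [Submodule.subtype_apply, wronskian, derivative_sub, derivative_mul]; ring⟩
  have hrange : LinearMap.range T = (LinearMap.ker (ψ.comp D.subtype)).map D.subtype := by
    refine Submodule.eq_of_le_of_finrank_le hle ?_
    rw [Submodule.finrank_map_subtype_eq, hK]
    have := LinearMap.finrank_range_add_finrank_ker T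
    omega
  have hW : W0 c μ ν ∈ D := mem_degreeLT.2 (by
    rw [degree_eq_natDegree (W0_monic c μ ν).ne_zero, Nat.cast_lt]
    have := natDegree_W0 (μ := μ) (ν := ν) H
    omega)
  have hWK : W0 c μ ν ∈ LinearMap.range T := by
    rw [hrange]
    refine ⟨⟨_, hW⟩, LinearMap.mem_ker.2 (hψ.2 (hπ.dvd_of_dvd_mul_left ⟨(C ((c.d : k) * c.R) * X - C q) * W0 c μ ν, ?_⟩)), rfl⟩
    simp only [Submodule.subtype_apply]
    have hL := hLF
    rw [L] at hL
    linear_combination (derivative F) * (pi_mul_derivative_W0 (μ := μ) (ν := ν) H) - (W0 c μ ν) * hL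
  obtain ⟨G, hG⟩ := hWK
  exact ⟨G, hdE G, hG⟩

theorem weak_span [IsAlgClosed k] (hg : Good c μ ν) {F G : k[X]} (hd : F.natDegree = c.R) (hF0 : F ≠ 0)
    (h0 : F.eval 0 ≠ 0) (hFμ : F.eval μ ≠ 0) (hFν : F.eval ν ≠ 0) (hGd : G.natDegree ≤ c.d)
    (hW : wronskian F G = W0 c μ ν) : Weak c μ ν (Submodule.span k {F, G}) := by
  have hne : wronskian F G ≠ 0 := hW ▸ (W0_monic c μ ν).ne_zero
  have := H.h1; have := H.h14; have := H.h43
  have key : ∀ x e, F.eval x ≠ 0 → (c.p = 0 ∨ e < c.p) → (X - C x) ^ (e - 1) ∣ W0 c μ ν →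
      ∃ s ∈ Submodule.span k ({F, G} : Set k[X]), s ≠ 0 ∧ (X - C x) ^ e ∣ s := by
    intro x e hFx he hdvd
    set s := G - C (G.eval x / F.eval x) * F with hs
    have hsW : wronskian F s = W0 c μ ν := by
      rw [← hW, hs, wronskian, wronskian, derivative_sub, derivative_C_mul]; ring
    have hs0 : s ≠ 0 := fun h => (W0_monic c μ ν).ne_zero (by rw [← hsW, h, wronskian_zero_right])
    refine ⟨s, Submodule.sub_mem _ (Submodule.subset_span (by simp)) (by
      rw [← smul_eq_C_mul]; exact Submodule.smul_mem _ _ (Submodule.subset_span (by simp))), hs0, ?_⟩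
    have hsx : s.eval x = 0 := by simp [hs, hFx]
    obtain ⟨U, hU, hUx⟩ := exists_eq_pow_rootMultiplicity_mul_and_not_dvd s hs0 x
    obtain ⟨i, hi⟩ : ∃ i, s.rootMultiplicity x = i + 1 :=
      ⟨s.rootMultiplicity x - 1, by have := (rootMultiplicity_pos hs0).2 hsx; omega⟩
    rw [hi] at hU
    rcases Nat.lt_or_ge i (e - 1) with hlt | hge
    · exfalso
      have hfac : wronskian F s = (X - C x) ^ i * (F * (C ((i + 1 : ℕ) : k) * U + (X - C x) * derivative U)
          - derivative F * ((X - C x) * U)) := by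
        rw [hU, wronskian, derivative_mul, derivative_pow, derivative_sub, derivative_X, derivative_C,
          Nat.add_sub_cancel, pow_succ]
        ring
      have h1 : (X - C x) ^ (i + 1) ∣ wronskian F s := hsW ▸ (pow_dvd_pow _ (by omega)).trans hdvd
      rw [hfac, pow_succ] at h1
      have h2 := dvd_iff_isRoot.1 ((mul_dvd_mul_iff_left (pow_ne_zero _ (X_sub_C_ne_zero x))).1 h1)
      simp [IsRoot, hFx] at h2
      rcases h2 with h2 | h2
      · exact H.cast_ne_zero (m := i + 1) (by omega) (by omega) (by push_cast; exact h2)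
      · exact hUx (dvd_iff_isRoot.2 h2)
    · exact (pow_dvd_pow _ (show e ≤ i + 1 by omega)).trans ⟨U, hU⟩
  have he := H.e_lt
  refine ⟨Submodule.span_le.2 ?_, L13.RamP1.finrank_span_pair_of_wronskian hne, L13.RamP1.isSeparable_iff.2 hne,
    ?_, key μ c.e3 hFμ (by omega) ?_, key ν c.e4 hFν (by omega) ?_, F, Submodule.subset_span (by simp), hF0, hd.le⟩
  · rintro z (rfl | rfl)
    · exact L13.RamP1.mem_degreeLE_of (by have := H.R_two; omega)
    · exact L13.RamP1.mem_degreeLE_of hGd
  · have := key 0 c.e1 h0 (by omega) (by rw [map_zero, sub_zero, W0]; exact (dvd_mul_right _ _).mul_right _)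
    simpa using this
  · rw [W0]; exact (dvd_mul_left _ _).mul_right _
  · rw [W0]; exact dvd_mul_left _ _

/-- window eigenvalues correspond to pencils -/
theorem exists_weak_of_sp [IsAlgClosed k] (hg : Good c μ ν) (hq : Sp c μ ν c.l c.r q) :
    ∃ V, Weak c μ ν V ∧ (∃ F ∈ V, F ≠ 0 ∧ F.natDegree = c.R ∧ L c μ ν F = C q * F) ∧
      ∀ V', Weak c μ ν V' → (∃ F ∈ V', F ≠ 0 ∧ F.natDegree = c.R ∧ L c μ ν F = C q * F) → V' = V := by
  obtain ⟨F, hd, hF0, h0, hLF, hl⟩ := exists_eigenpoly H hg hq
  obtain ⟨hcop, hπ⟩ := eigenpoly_isCoprime H hg hd hF0 h0 hLF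
  obtain ⟨a, b, hab⟩ := hπ
  have hroot : ∀ x, (piPoly μ ν).eval x = 0 → F.eval x ≠ 0 := fun x hx hFx => by
    simpa [hx, hFx] using congrArg (eval x) hab
  obtain ⟨G, hGd, hW⟩ := exists_partner H hg hd hF0 h0 hLF
  refine ⟨_, weak_span H hg hd hF0 h0 (hroot μ (by simp [piPoly])) (hroot ν (by simp [piPoly])) hGd hW,
    ⟨F, Submodule.subset_span (by simp), hF0, hd, hLF⟩, ?_⟩
  rintro V' hV' ⟨F', hF'V, hF'0, hd', hLF'⟩
  obtain ⟨t, ht⟩ := eigenpoly_unique H hg hq hLF hLF' hd hd' hl
  have ht0 : t ≠ 0 := fun h => hF'0 (by rw [ht, h, map_zero, zero_mul])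
  obtain ⟨F₁, G₁, γ, q₁, hVs, hγ, hd1, hF10, hG1d, hW1, -, -, -, -⟩ := exists_basis_of_weak H hg.hμ hg.hν hg.hne hV'
  have hFV : F ∈ V' := by
    have : F = t⁻¹ • F' := by rw [ht, smul_eq_C_mul, ← mul_assoc, ← map_mul, inv_mul_cancel₀ ht0, map_one, one_mul]
    rw [this]; exact V'.smul_mem _ hF'V
  obtain ⟨α, β, hαβ⟩ := Submodule.mem_span_pair.1 (hVs ▸ hFV)
  have hβ : β = 0 := by
    by_contra hβ
    have h1 : (α • F₁).natDegree < (β • G₁).natDegree := by
      rw [natDegree_smul _ hβ, hG1d]
      have := natDegree_smul_le α F₁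
      have := H.R_two
      omega
    have h2 := natDegree_add_eq_right_of_natDegree_lt h1
    rw [hαβ, hd, natDegree_smul _ hβ, hG1d] at h2
    have := H.R_two
    omega
  subst hβ
  rw [zero_smul, add_zero] at hαβ
  have hα : α ≠ 0 := fun h => hF0 (by rw [← hαβ, h, zero_smul])
  have hF1 : F₁ = α⁻¹ • F := by rw [← hαβ, smul_smul, inv_mul_cancel₀ hα, one_smul]
  have hw : wronskian F (G₁ - (α * γ) • G) = 0 := by
    have e : wronskian F G₁ = C α * wronskian F₁ G₁ := by
      rw [← hαβ, wronskian, wronskian, smul_eq_C_mul, derivative_C_mul]; ring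
    rw [wronskian, derivative_sub, smul_eq_C_mul, derivative_C_mul, map_mul]
    rw [hW1] at e
    rw [wronskian] at e hW
    linear_combination e - C α * C γ * hW
  obtain ⟨t', ht'⟩ := wronskian_eq_zero_iff H hd hcop
    ((natDegree_sub_le _ _).trans (max_le hG1d.le ((natDegree_smul_le _ _).trans hGd))) hF0 hw
  have hG1 : G₁ = (α * γ) • G + t' • F := by rw [smul_eq_C_mul t', ← ht']; ring
  rw [hVs]
  refine le_antisymm (Submodule.span_le.2 ?_) (Submodule.span_le.2 ?_)
  · rintro z (rfl | rfl)
    · rw [hF1]; exact Submodule.smul_mem _ _ (Submodule.subset_span (by simp))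
    · rw [hG1]; exact add_mem (Submodule.smul_mem _ _ (Submodule.subset_span (by simp)))
        (Submodule.smul_mem _ _ (Submodule.subset_span (by simp)))
  · rintro z (rfl | rfl)
    · rw [← hαβ]; exact Submodule.smul_mem _ _ (Submodule.subset_span (by simp))
    · have hz : (α * γ)⁻¹ • (G₁ - t' • F) = z := by
        rw [hG1, add_sub_cancel_right, smul_smul, inv_mul_cancel₀ (mul_ne_zero hα hγ), one_smul]
      rw [← hz]
      refine Submodule.smul_mem _ _ (sub_mem (Submodule.subset_span (by simp)) (Submodule.smul_mem _ _ ?_))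
      rw [← hαβ]; exact Submodule.smul_mem _ _ (Submodule.subset_span (by simp))

end Groth.L03.Heun
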