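import Groth.Agent.L03.Heun.Construct
import Mathlib.SetTheory.Cardinal.NatCard

/-!
# The number of pencils is the size of the window
-/

set_option autoImplicit false
universe u

open Polynomial

namespace Groth.L03.Heun

variable {k : Type u} [Field k] [IsAlgClosed k] {c : Par} {μ ν : k} (H : Hyp k c)
include H

/-- the accessory parameter of a pencil is unique -/
theorem eigen_unique_of_weak (hg : Good c μ ν) {V : Submodule k k[X]} (hV : Weak c μ ν V) {F F' : k[X]} {q q' : k}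
    (hF : F ∈ V) (hF0 : F ≠ 0) (hLF : L c μ ν F = C q * F) (hF' : F' ∈ V) (hF'0 : F' ≠ 0)
    (hLF' : L c μ ν F' = C q' * F') : q = q' := by
  obtain ⟨F₁, G₁, γ, q₁, hVs, -, -, -, -, -, hL1, hL2, -, -⟩ := exists_basis_of_weak H hg.hμ hg.hν hg.hne hV
  have key : ∀ s ∈ V, s ≠ 0 → ∀ t : k, L c μ ν s = C t * s → t = q₁ := by
    intro s hs hs0 t ht
    obtain ⟨a, b, rfl⟩ := Submodule.mem_span_pair.1 (hVs ▸ hs)
    have h : L c μ ν (a • F₁ + b • G₁) = C q₁ * (a • F₁ + b • G₁) := by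
      rw [smul_eq_C_mul, smul_eq_C_mul, L_add, L_C_mul, L_C_mul, hL1, hL2]; ring
    exact C_injective (mul_right_cancel₀ hs0 (ht.symm.trans h))
  rw [key F hF hF0 q hLF, key F' hF' hF'0 q' hLF']

/-- the pencils are in bijection with the window eigenvalues -/
theorem finite_and_card (hg : Good c μ ν) :
    {V | Weak c μ ν V}.Finite ∧ Nat.card {V | Weak c μ ν V} = c.r - c.l := by
  classical
  obtain ⟨χ, hχ⟩ : ∃ χ, χ = (mat c μ ν c.l c.r).charpoly := ⟨_, rfl⟩
  have hχ0 : χ ≠ 0 := hχ ▸ (Matrix.charpoly_monic _).ne_zero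
  have hsep : χ.Separable := hχ ▸ hg.hsep
  have hdeg : χ.natDegree = c.r - c.l := by rw [hχ, Matrix.charpoly_natDegree_eq_dim, Fintype.card_fin]
  have hmem : ∀ q, q ∈ χ.roots.toFinset ↔ Sp c μ ν c.l c.r q := fun q => by
    rw [Multiset.mem_toFinset, mem_roots hχ0, hχ]
    exact eval_charpoly_eq_zero_iff c μ ν _ _ q
  choose W hW hWF hWu using fun q : {q // q ∈ χ.roots.toFinset} => exists_weak_of_sp H hg ((hmem q.1).1 q.2)
  let g : {q // q ∈ χ.roots.toFinset} → {V | Weak c μ ν V} := fun q => ⟨W q, hW q⟩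
  have hg' : Function.Bijective g := by
    refine ⟨fun q q' h => Subtype.ext ?_, fun V => ?_⟩
    · have h' : W q = W q' := congrArg Subtype.val h
      obtain ⟨F, hF, hF0, -, hLF⟩ := hWF q
      obtain ⟨F', hF', hF'0, -, hLF'⟩ := hWF q'
      exact eigen_unique_of_weak H hg (hW q) hF hF0 hLF (h' ▸ hF') hF'0 hLF'
    · obtain ⟨F, q, hF, hF0, hFd, hLF, hq⟩ := sp_of_weak H hg V.2
      have e := hWu ⟨q, (hmem q).2 hq⟩ V.1 V.2 ⟨F, hF, hF0, hFd, hLF⟩
      exact ⟨⟨q, (hmem q).2 hq⟩, Subtype.ext e.symm⟩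
  haveI : Finite {V | Weak c μ ν V} := Finite.of_surjective g hg'.2
  refine ⟨Set.toFinite _, ?_⟩
  rw [← Nat.card_eq_of_bijective g hg', Nat.card_eq_fintype_card, Fintype.card_coe,
    Multiset.toFinset_card_of_nodup (nodup_roots hsep), IsAlgClosed.card_roots_eq_natDegree, hdeg]

end Groth.L03.Heun
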