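import Groth.Agent.L03.Heun.Kernel
import Mathlib.RingTheory.Polynomial.Resultant.Basic
import Mathlib.LinearAlgebra.Matrix.Block
import Mathlib.Algebra.MvPolynomial.Eval

/-!
# Genericity of the singular points
-/

set_option autoImplicit false
universe u v

open Polynomial

namespace Groth.L03.Heun

section Map

variable {A : Type u} [CommRing A] {B : Type v} [CommRing B] (φ : A →+* B) (c : Par) (μ ν : A)

theorem mat_map (a b : ℕ) : (mat c μ ν a b).map φ = mat c (φ μ) (φ ν) a b := by
  ext i j
  simp [mat, cA, cB, cC, apply_ite φ]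

theorem charpoly_map' (a b : ℕ) : (mat c μ ν a b).charpoly.map φ = (mat c (φ μ) (φ ν) a b).charpoly := by
  rw [← Matrix.charpoly_map, mat_map]

/-- resultant of two interval characteristic polynomials -/
noncomputable def res (a b a' b' : ℕ) : A :=
  resultant (mat c μ ν a b).charpoly (mat c μ ν a' b').charpoly (b - a) (b' - a')

theorem res_map (a b a' b' : ℕ) : φ (res c μ ν a b a' b') = res c (φ μ) (φ ν) a b a' b' := by
  rw [res, res, ← resultant_map_map, charpoly_map', charpoly_map']

/-- resultant of an interval characteristic polynomial and its derivative -/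
noncomputable def dres (a b : ℕ) : A :=
  resultant (mat c μ ν a b).charpoly (derivative (mat c μ ν a b).charpoly) (b - a) (b - a)

theorem dres_map (a b : ℕ) : φ (dres c μ ν a b) = dres c (φ μ) (φ ν) a b := by
  rw [dres, dres, ← resultant_map_map, ← derivative_map, charpoly_map']

/-- the genericity polynomial -/
noncomputable def psi : A :=
  dres c μ ν c.l c.r * res c μ ν 0 (min c.l c.r) c.l c.r * res c μ ν 0 (min c.l c.r) c.r (c.R + 1) *
    res c μ ν c.l c.r c.r (c.R + 1) * (if c.r ≤ c.l then res c μ ν 0 c.r c.l (c.R + 1) else 1)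

theorem psi_map : φ (psi c μ ν) = psi c (φ μ) (φ ν) := by
  simp only [psi, map_mul, res_map, dres_map, apply_ite φ, map_one]

end Map

variable {k : Type u} [Field k] (c : Par) (μ ν : k)

theorem natDegree_charpoly (a b : ℕ) : (mat c μ ν a b).charpoly.natDegree = b - a := by
  rw [Matrix.charpoly_natDegree_eq_dim, Fintype.card_fin]

theorem res_ne_zero_iff (a b a' b' : ℕ) :
    res c μ ν a b a' b' ≠ 0 ↔ IsCoprime (mat c μ ν a b).charpoly (mat c μ ν a' b').charpoly := by
  have h1 := natDegree_charpoly c μ ν a b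
  have h2 := natDegree_charpoly c μ ν a' b'
  rw [res, Ne, show resultant (mat c μ ν a b).charpoly (mat c μ ν a' b').charpoly (b - a) (b' - a') =
    resultant (mat c μ ν a b).charpoly (mat c μ ν a' b').charpoly from by rw [h1, h2], resultant_eq_zero_iff]
  simp [(Matrix.charpoly_monic (mat c μ ν a b)).ne_zero]

theorem dres_ne_zero_iff (a b : ℕ) : dres c μ ν a b ≠ 0 ↔ (mat c μ ν a b).charpoly.Separable := by
  have h1 := natDegree_charpoly c μ ν a b
  set f := (mat c μ ν a b).charpoly with hf
  have hm : f.Monic := Matrix.charpoly_monic _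
  have hd : (derivative f).natDegree ≤ b - a := (natDegree_derivative_le f).trans (by omega)
  obtain ⟨t, ht⟩ := Nat.exists_eq_add_of_le hd
  have e : dres c μ ν a b = resultant f (derivative f) := by
    rw [dres, ← hf]
    conv_lhs => arg 4; rw [ht]
    rw [resultant_add_right_deg _ _ _ _ _ le_rfl, ← h1, hm.coeff_natDegree, one_pow, one_mul]
  rw [e, Ne, resultant_eq_zero_iff, separable_def]
  simp [hm.ne_zero]

theorem not_sp_of_res {a b a' b' : ℕ} (h : res c μ ν a b a' b' ≠ 0) (q : k) :
    Sp c μ ν a b q → ¬ Sp c μ ν a' b' q := by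
  intro h1 h2
  obtain ⟨s, t, hst⟩ := (res_ne_zero_iff c μ ν a b a' b').1 h
  simpa [(eval_charpoly_eq_zero_iff c μ ν a b q).2 h1, (eval_charpoly_eq_zero_iff c μ ν a' b' q).2 h2] using
    congrArg (eval q) hst

theorem good_of_psi (hμ : μ ≠ 0) (hν : ν ≠ 0) (hne : μ ≠ ν) (h : psi c μ ν ≠ 0) : Good c μ ν := by
  simp only [psi, mul_ne_zero_iff] at h
  obtain ⟨⟨⟨⟨h0, h1⟩, h2⟩, h3⟩, h4⟩ := h
  exact ⟨hμ, hν, hne, (dres_ne_zero_iff c μ ν _ _).1 h0, not_sp_of_res c μ ν h1, not_sp_of_res c μ ν h2,
    not_sp_of_res c μ ν h3, fun hle => not_sp_of_res c μ ν (by rwa [if_pos hle] at h4)⟩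

theorem charpoly_degenerate (a b : ℕ) :
    (mat c (1 : k) 0 a b).charpoly = ∏ i : Fin (b - a), (X - C (cB c (1 : k) 0 (a + i))) := by
  rw [← Matrix.charpoly_transpose, Matrix.charpoly_of_isUpperTriangular]
  · refine Finset.prod_congr rfl fun i _ => ?_
    simp [mat]
  · intro i j hij
    have hij' : (j : ℕ) < i := hij
    simp [mat, cC, Matrix.transpose_apply]
    rw [if_neg (by omega), if_neg (by omega)]; simp

variable {c}

theorem cB_degenerate (m : ℕ) :
    cB c (1 : k) 0 m = (m : k) * (((c.e1 : k) + c.e4 - 1) - m) := by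
  simp only [cB]; ring

theorem cB_inj (H : Hyp k c) {m m' : ℕ} (hm : m ≤ c.R) (hm' : m' ≤ c.R) (hbig : c.l ≤ m + m' ∨ c.e1 ≤ m + m')
    (h : cB c (1 : k) 0 m = cB c (1 : k) 0 m') : m = m' := by
  haveI := H.hchar
  rw [cB_degenerate, cB_degenerate] at h
  have h' : ((m : k) - m') * ((c.e1 : k) + c.e4 - 1 - m - m') = 0 := by linear_combination h
  have hR := H.R_lt
  rcases mul_eq_zero.1 h' with h' | h'
  · exact H.cast_inj (by omega) (by omega) (sub_eq_zero.1 h')
  exfalso
  have := H.h1; have := H.h14; have := H.h43; have := H.h3d; have := H.hsum; have := H.hp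
  have hd : (c.p : ℤ) ∣ (c.e1 : ℤ) + c.e4 - 1 - m - m' := (CharP.intCast_eq_zero_iff k c.p _).1 (by push_cast; exact h')
  obtain ⟨t, ht⟩ := hd
  rcases eq_or_ne c.p 0 with hp | hp
  · rw [hp] at ht; simp at ht; omega
  · have h1 : 0 < t := by
      by_contra hcon
      have : (c.p : ℤ) * t ≤ 0 := mul_nonpos_of_nonneg_of_nonpos (by omega) (by omega)
      omega
    have h2 : t < 2 := by
      by_contra hcon
      have : (c.p : ℤ) * 2 ≤ c.p * t := mul_le_mul_of_nonneg_left (by omega) (by omega)
      omega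
    obtain rfl : t = 1 := by omega
    rw [Par.l, if_neg hp] at hbig
    omega

theorem res_degenerate (H : Hyp k c) {a b a' b' : ℕ} (hb : b ≤ c.R + 1) (hb' : b' ≤ c.R + 1) (hdis : b ≤ a')
    (hbig : c.l ≤ a' ∨ c.e1 ≤ a') : res c (1 : k) 0 a b a' b' ≠ 0 := by
  rw [res_ne_zero_iff, charpoly_degenerate, charpoly_degenerate]
  refine IsCoprime.prod_left fun i _ => IsCoprime.prod_right fun j _ => ?_
  refine isCoprime_X_sub_C_of_isUnit_sub (isUnit_iff_ne_zero.2 (sub_ne_zero.2 fun h => ?_))
  have hi := i.isLt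
  have hj := j.isLt
  have := cB_inj H (by omega) (by omega) (by omega) h
  omega

theorem psi_degenerate (H : Hyp k c) : psi c (1 : k) 0 ≠ 0 := by
  have hr := H.r_le
  have hl := H.l_le
  simp only [psi, mul_ne_zero_iff]
  refine ⟨⟨⟨⟨?_, res_degenerate H (by omega) hr (min_le_left _ _) (Or.inl le_rfl)⟩,
    res_degenerate H (by omega) le_rfl (min_le_right _ _) ?_⟩, ?_⟩, ?_⟩
  · rw [dres_ne_zero_iff, charpoly_degenerate, separable_prod_X_sub_C_iff]
    intro i j h
    have hi := i.isLt
    have hj := j.isLt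
    have := cB_inj H (by omega) (by omega) (Or.inl (by omega)) h
    exact Fin.ext (by omega)
  · rcases min_choice c.e1 (c.R + 1) with h | h
    · exact Or.inr (by rw [Par.r, h])
    · exact Or.inl (by rw [Par.r, h]; omega)
  · refine res_degenerate H hr le_rfl le_rfl ?_
    rcases min_choice c.e1 (c.R + 1) with h | h
    · exact Or.inr (by rw [Par.r, h])
    · exact Or.inl (by rw [Par.r, h]; omega)
  · split_ifs with h
    · exact res_degenerate H hr le_rfl h (Or.inl le_rfl)
    · exact one_ne_zero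

end Groth.L03.Heun
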