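import Groth.Agent.L03.Heun.Tridiag
import Mathlib.Algebra.CharP.Basic
import Mathlib.Algebra.CharP.Lemmas

/-!
# Numerical hypotheses and the recurrence coefficients
-/

set_option autoImplicit false
universe u

namespace Groth.L03.Heun

variable (k : Type u) [Field k]

/-- the standing numerical hypotheses -/
structure Hyp (c : Par) : Prop where
  h1 : 2 ≤ c.e1
  h14 : c.e1 ≤ c.e4
  h43 : c.e4 ≤ c.e3
  h3d : c.e3 + c.R ≤ c.d
  hsum : c.e1 + c.e3 + c.e4 = c.d + c.R + 2
  hp : c.p = 0 ∨ c.d - c.R < c.p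
  hchar : CharP k c.p

/-- start of the new degrees -/
def Par.l (c : Par) : ℕ := if c.p = 0 then 0 else c.d + 1 - c.p

/-- end of the window -/
def Par.r (c : Par) : ℕ := min c.e1 (c.R + 1)

variable {k} {c : Par} (H : Hyp k c)
include H

theorem Hyp.intCast_eq_zero {z : ℤ} (hz : c.p = 0 ∨ z.natAbs < c.p) (h : (z : k) = 0) : z = 0 := by
  haveI := H.hchar
  have hd := (CharP.intCast_eq_zero_iff k c.p z).1 h
  rcases hz with hz | hz
  · rw [hz] at hd; simpa using hd
  · exact Int.eq_zero_of_dvd_of_natAbs_lt_natAbs hd (by simpa using hz)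

theorem Hyp.cast_ne_zero {m : ℕ} (h0 : 0 < m) (hm : c.p = 0 ∨ m < c.p) : (m : k) ≠ 0 := fun h => by
  have := H.intCast_eq_zero (z := (m : ℤ)) (by simpa using hm) (by simpa using h)
  omega

theorem Hyp.cast_inj {a b : ℕ} (ha : c.p = 0 ∨ a < c.p) (hb : c.p = 0 ∨ b < c.p) (h : (a : k) = b) : a = b := by
  have := H.intCast_eq_zero (z := (a : ℤ) - b) (by omega) (by rw [Int.cast_sub, Int.cast_natCast, Int.cast_natCast, h, sub_self])
  omega

theorem Hyp.R_lt : c.p = 0 ∨ c.R + 1 < c.p := by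
  have := H.h1; have := H.h14; have := H.h43; have := H.h3d; have := H.hsum; have := H.hp
  omega

theorem Hyp.R_two : c.R + 2 ≤ c.d := by
  have := H.h1; have := H.h14; have := H.h43; have := H.h3d
  omega

theorem Hyp.d_lt : c.p = 0 ∨ c.d < c.R + c.p := by
  have := H.hp; have := H.R_two
  omega

theorem Hyp.e_lt : c.p = 0 ∨ (c.e1 < c.p ∧ c.e3 < c.p ∧ c.e4 < c.p) := by
  have := H.h14; have := H.h43; have := H.h3d; have := H.hp
  omega

theorem Hyp.R_lt_e3 : c.R < c.e3 ∧ c.R < c.e4 := by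
  have := H.h1; have := H.h14; have := H.h43; have := H.h3d; have := H.hsum
  omega

theorem Hyp.l_le : c.l ≤ c.R := by
  have := H.d_lt
  simp only [Par.l]
  split_ifs with h <;> omega

theorem Hyp.r_le : c.r ≤ c.R + 1 := min_le_right _ _

theorem Hyp.cast_sum : ((c.e1 : k) + c.e3 + c.e4) = c.d + c.R + 2 := by
  exact_mod_cast congrArg (Nat.cast : ℕ → k) H.hsum

theorem Hyp.cA_l : 0 < c.l → cA (k := k) c (c.l - 1) = 0 := by
  intro h
  haveI := H.hchar
  simp only [Par.l] at h ⊢
  split_ifs at h ⊢ with hp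
  · omega
  · have e : c.d + 1 - c.p - 1 + c.p = c.d := by omega
    have e' := congrArg (Nat.cast : ℕ → k) e
    rw [Nat.cast_add, CharP.cast_eq_zero k c.p, add_zero] at e'
    simp [cA, e']

theorem Hyp.cA_ne_zero {m : ℕ} (hm : m < c.R) (hl : m + 1 ≠ c.l) : cA (k := k) c m ≠ 0 := by
  haveI := H.hchar
  intro h
  rcases mul_eq_zero.1 h with h | h
  · have h' : ((c.d : k)) = (m : k) := (sub_eq_zero.1 h).symm
    simp only [Par.l] at hl
    rcases eq_or_ne c.p 0 with hp | hp
    · have := H.cast_inj (Or.inl hp) (Or.inl hp) h'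
      have := H.R_two
      omega
    · rw [if_neg hp] at hl
      have := H.R_two; have := H.d_lt; have := H.R_lt; have := H.hp
      have hd : (c.p : ℤ) ∣ (c.d : ℤ) - m := (CharP.intCast_eq_zero_iff k c.p _).1 (by
        rw [Int.cast_sub, Int.cast_natCast, Int.cast_natCast, h', sub_self])
      obtain ⟨t, ht⟩ := hd
      have h1 : 0 < t := by
        by_contra hcon
        have : (c.p : ℤ) * t ≤ 0 := mul_nonpos_of_nonneg_of_nonpos (by omega) (by omega)
        omega
      have h2 : t < 2 := by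
        by_contra hcon
        have : (c.p : ℤ) * 2 ≤ c.p * t := mul_le_mul_of_nonneg_left (by omega) (by omega)
        omega
      obtain rfl : t = 1 := by omega
      omega
  · have := H.cast_inj (a := m) (b := c.R) (by have := H.R_lt; omega) (by have := H.R_lt; omega) (sub_eq_zero.1 h)
    omega

theorem Hyp.cC_ne_zero {μ ν : k} (hμ : μ ≠ 0) (hν : ν ≠ 0) {m : ℕ} (h0 : 0 < m) (hm : m ≤ c.R + 1) (he : m ≠ c.e1) :
    cC c μ ν m ≠ 0 := by
  have := H.R_lt; have := H.e_lt
  exact mul_ne_zero (mul_ne_zero hμ hν) (mul_ne_zero (H.cast_ne_zero h0 (by omega))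
    (sub_ne_zero.2 fun h => he (H.cast_inj (by omega) (by omega) h)))

omit H in
theorem cC_zero (μ ν : k) : cC c μ ν 0 = 0 := by simp [cC]

omit H in
theorem cC_e1 (μ ν : k) : cC c μ ν c.e1 = 0 := by simp [cC]

omit H in
theorem cA_R : cA (k := k) c c.R = 0 := by simp [cA]

end Groth.L03.Heun
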