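import Groth.Agent.L03.Heun.Hyp
import Mathlib.FieldTheory.Separable

/-!
# Eigenvectors of the truncations
-/

set_option autoImplicit false
universe u

namespace Groth.L03.Heun

variable {k : Type u} [Field k] {c : Par} {μ ν q : k}

/-- restriction of a sequence to an interval -/
def restr (a b : ℕ) (v : ℕ → k) (j : ℕ) : k := if a ≤ j ∧ j < b then v j else 0

theorem supp_restr (a b : ℕ) (v : ℕ → k) : Supp a b (restr a b v) := fun _ hj => if_neg hj

theorem restr_of_mem {a b j : ℕ} (v : ℕ → k) (h1 : a ≤ j) (h2 : j < b) : restr a b v j = v j := if_pos ⟨h1, h2⟩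

theorem op_congr {v w : ℕ → k} (j : ℕ) (h1 : j ≠ 0 → cA c (j - 1) * v (j - 1) = cA c (j - 1) * w (j - 1))
    (h2 : v j = w j) (h3 : cC c μ ν (j + 1) * v (j + 1) = cC c μ ν (j + 1) * w (j + 1)) :
    op c μ ν v j = op c μ ν w j := by
  simp only [op]
  rw [h2, h3]
  split_ifs with h
  · rfl
  · rw [h1 h]

/-- a solution restricts to an interval with decoupled ends -/
theorem isKer_restr {a b : ℕ} {v : ℕ → k} (hop : ∀ j, a ≤ j → j < b → op c μ ν v j = q * v j)
    (ha : 0 < a → cA c (a - 1) * v (a - 1) = 0) (hb : cC c μ ν b * v b = 0) :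
    IsKer c μ ν a b q (restr a b v) := by
  refine ⟨supp_restr a b v, fun j hj1 hj2 => ?_⟩
  rw [restr_of_mem v hj1 hj2, ← hop j hj1 hj2]
  refine op_congr j (fun hj0 => ?_) (restr_of_mem v hj1 hj2) ?_
  · by_cases h : a ≤ j - 1
    · rw [restr_of_mem v h (by omega)]
    · rw [supp_restr a b v (j - 1) (by omega), mul_zero]
      obtain rfl : a = j := by omega
      exact (ha (by omega)).symm
  · by_cases h : j + 1 < b
    · rw [restr_of_mem v (by omega) h]
    · rw [supp_restr a b v (j + 1) (by omega), mul_zero]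
      obtain rfl : b = j + 1 := by omega
      exact hb.symm

theorem sp_restr {a b : ℕ} {v : ℕ → k} (hop : ∀ j, a ≤ j → j < b → op c μ ν v j = q * v j)
    (ha : 0 < a → cA c (a - 1) * v (a - 1) = 0) (hb : cC c μ ν b * v b = 0) {j : ℕ} (hj1 : a ≤ j) (hj2 : j < b)
    (hj : v j ≠ 0) : Sp c μ ν a b q :=
  ⟨restr a b v, isKer_restr hop ha hb, fun h => hj (by rw [← restr_of_mem v hj1 hj2, h]; rfl)⟩

theorem Sp.split_low {a m b : ℕ} (h : Sp c μ ν a b q) (ham : a ≤ m) (hmb : m ≤ b) (hA : 0 < m → cA (k := k) c (m - 1) = 0) :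
    Sp c μ ν a m q ∨ Sp c μ ν m b q := by
  obtain ⟨v, ⟨hv, hop⟩, hv0⟩ := h
  obtain ⟨j, hj⟩ := Function.ne_iff.1 hv0
  by_cases hup : ∃ j, m ≤ j ∧ j < b ∧ v j ≠ 0
  · obtain ⟨j, h1, h2, h3⟩ := hup
    exact Or.inr (sp_restr (fun i hi1 hi2 => hop i (by omega) hi2) (fun hm => by rw [hA hm, zero_mul])
      (by rw [hv b (by omega), mul_zero]) h1 h2 h3)
  · push Not at hup
    have hjr : a ≤ j ∧ j < m := by
      by_contra hc
      by_cases hb : a ≤ j ∧ j < b
      · exact hj (hup j (by omega) hb.2)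
      · exact hj (hv j hb)
    refine Or.inl (sp_restr (fun i hi1 hi2 => hop i hi1 (by omega)) (fun ha => by rw [hv (a - 1) (by omega), mul_zero])
      ?_ hjr.1 hjr.2 hj)
    rcases Nat.lt_or_ge m b with hm | hm
    · rw [hup m le_rfl hm, mul_zero]
    · rw [hv m (by omega), mul_zero]

theorem Sp.split_high {a m b : ℕ} (h : Sp c μ ν a b q) (ham : a ≤ m) (hmb : m ≤ b) (hC : cC c μ ν m = 0) :
    Sp c μ ν a m q ∨ Sp c μ ν m b q := by
  obtain ⟨v, ⟨hv, hop⟩, hv0⟩ := h
  obtain ⟨j, hj⟩ := Function.ne_iff.1 hv0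
  by_cases hlo : ∃ j, a ≤ j ∧ j < m ∧ v j ≠ 0
  · obtain ⟨j, h1, h2, h3⟩ := hlo
    exact Or.inl (sp_restr (fun i hi1 hi2 => hop i hi1 (by omega)) (fun ha => by rw [hv (a - 1) (by omega), mul_zero])
      (by rw [hC, zero_mul]) h1 h2 h3)
  · push Not at hlo
    have hjr : m ≤ j ∧ j < b := by
      by_contra hc
      by_cases hb : a ≤ j ∧ j < b
      · exact hj (hlo j hb.1 (by omega))
      · exact hj (hv j hb)
    refine Or.inr (sp_restr (fun i hi1 hi2 => hop i (by omega) hi2) (fun hm => ?_)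
      (by rw [hv b (by omega), mul_zero]) hjr.1 hjr.2 hj)
    by_cases h1 : a ≤ m - 1
    · rw [hlo (m - 1) h1 (by omega), mul_zero]
    · rw [hv (m - 1) (by omega), mul_zero]

/-- genericity of the pair of finite singular points -/
structure Good (c : Par) (μ ν : k) : Prop where
  hμ : μ ≠ 0
  hν : ν ≠ 0
  hne : μ ≠ ν
  hsep : (mat c μ ν c.l c.r).charpoly.Separable
  h01 : ∀ q, Sp c μ ν 0 (min c.l c.r) q → ¬ Sp c μ ν c.l c.r q
  h02 : ∀ q, Sp c μ ν 0 (min c.l c.r) q → ¬ Sp c μ ν c.r (c.R + 1) q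
  h12 : ∀ q, Sp c μ ν c.l c.r q → ¬ Sp c μ ν c.r (c.R + 1) q
  hcross : c.r ≤ c.l → ∀ q, Sp c μ ν 0 c.r q → ¬ Sp c μ ν c.l (c.R + 1) q

theorem not_sp_empty {a b : ℕ} (h : b ≤ a) : ¬ Sp c μ ν a b q := fun ⟨v, ⟨hv, _⟩, hv0⟩ =>
  hv0 (funext fun j => hv j (by omega))

variable (H : Hyp k c)
include H

theorem cC_r : ∀ v : ℕ → k, Supp 0 (c.R + 1) v → cC c μ ν c.r * v c.r = 0 := by
  intro v hv
  rcases min_choice c.e1 (c.R + 1) with h | h <;> rw [Par.r, h]
  · rw [cC_e1, zero_mul]
  · rw [hv (c.R + 1) (by omega), mul_zero]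

/-- a head and a tail eigenvector give an eigenvector of the window -/
theorem sp_window (hg : Good c μ ν) (hhead : Sp c μ ν 0 c.r q) (htail : Sp c μ ν c.l (c.R + 1) q) :
    Sp c μ ν c.l c.r q := by
  rcases Nat.lt_or_ge c.l c.r with hlr | hlr
  · have h1 := hhead.split_low (Nat.zero_le c.l) hlr.le H.cA_l
    rcases h1 with h1 | h1
    · rcases min_choice c.e1 (c.R + 1) with hr | hr
      · rcases htail.split_high hlr.le H.r_le (by rw [Par.r, hr, cC_e1]) with h2 | h2
        · exact h2
        · exact absurd h2 (hg.h02 q (by rwa [min_eq_left hlr.le]))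
      · rw [Par.r, hr]; exact htail
    · exact h1
  · exact absurd htail (hg.hcross hlr q hhead)

/-- a full eigenvector vanishing at the start of the window is zero -/
theorem eq_zero_of_coeff_l (hg : Good c μ ν) (hq : Sp c μ ν c.l c.r q) {v : ℕ → k}
    (hker : IsKer c μ ν 0 (c.R + 1) q v) (hvl : v c.l = 0) : v = 0 := by
  obtain ⟨hv, hop⟩ := hker
  have hlr : c.l < c.r := lt_of_not_ge fun h => not_sp_empty h hq
  have hr := H.r_le
  have hre : c.r ≤ c.e1 := min_le_left _ _
  have hA : ∀ w : ℕ → k, 0 < c.l → cA c (c.l - 1) * w (c.l - 1) = 0 := fun w h => by rw [H.cA_l h, zero_mul]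
  have hwin : ∀ j, c.l ≤ j → j < c.r → v j = 0 := by
    intro j
    induction j using Nat.strong_induction_on with
    | _ j ih =>
      intro h1 h2
      rcases Nat.eq_or_lt_of_le h1 with rfl | h1
      · exact hvl
      have h := hop (j - 1) (Nat.zero_le _) (by omega)
      simp only [op, show j - 1 + 1 = j by omega] at h
      rw [ih (j - 1) (by omega) (by omega) (by omega), mul_zero, mul_zero, add_zero] at h
      have h' : cC c μ ν j * v j = 0 := by
        by_cases hj : j - 1 = 0
        · rw [if_pos hj, zero_add] at h; exact h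
        · rw [if_neg hj] at h
          by_cases hjl : c.l ≤ j - 1 - 1
          · rw [ih (j - 1 - 1) (by omega) hjl (by omega), mul_zero, zero_add] at h; exact h
          · rw [show j - 1 - 1 = c.l - 1 by omega, hA v (by omega), zero_add] at h; exact h
      exact (mul_eq_zero.1 h').resolve_left (H.cC_ne_zero hg.hμ hg.hν (by omega) (by omega) (by omega))
  funext j
  by_contra hj
  have hjR : j < c.R + 1 := by
    by_contra h; exact hj (hv j (by omega))
  rcases Nat.lt_or_ge j c.l with hjl | hjl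
  · exact hg.h01 q (by
      rw [min_eq_left hlr.le]
      exact sp_restr (fun i h1 h2 => hop i h1 (by omega)) (fun h => absurd h (lt_irrefl 0))
        (by rw [hvl, mul_zero]) (Nat.zero_le j) hjl hj) hq
  · rcases Nat.lt_or_ge j c.r with hjr | hjr
    · exact hj (hwin j hjl hjr)
    · exact hg.h12 q hq (sp_restr (fun i h1 h2 => hop i (Nat.zero_le _) h2)
        (fun h => by rw [hwin (c.r - 1) (by omega) (by omega), mul_zero])
        (by rw [hv (c.R + 1) (by omega), mul_zero]) hjr hjR hj)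

/-- every window eigenvalue extends to a full eigenvector -/
theorem exists_ker (hg : Good c μ ν) (hq : Sp c μ ν c.l c.r q) :
    ∃ v, IsKer c μ ν 0 (c.R + 1) q v ∧ v c.l ≠ 0 := by
  have hlr : c.l < c.r := lt_of_not_ge fun h => not_sp_empty h hq
  have hr := H.r_le
  obtain ⟨vI, ⟨hI, hopI⟩, hI0⟩ := id hq
  obtain ⟨w0, hw0, hop0⟩ := exists_solve c μ ν (a := 0) (b := c.l) (q := q)
    (fun h => hg.h01 q (by rwa [min_eq_left hlr.le]) hq) (fun j => q * vI j - op c μ ν vI j)
  obtain ⟨w1, hw1, hop1⟩ := exists_solve c μ ν (a := c.r) (b := c.R + 1) (q := q)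
    (hg.h12 q hq) (fun j => q * vI j - op c μ ν vI j)
  have hv : Supp 0 (c.R + 1) (w0 + vI + w1) := fun j hj => by
    simp [hw0 j (by omega), hI j (by omega), hw1 j (by omega)]
  have hsup1 : Supp 0 (c.R + 1) w1 := fun j hj => hw1 j (by omega)
  have hker : IsKer c μ ν 0 (c.R + 1) q (w0 + vI + w1) := by
    refine ⟨hv, fun j _ hj => ?_⟩
    rw [op_add, op_add]
    have z0 : c.l ≤ j → op c μ ν w0 j = 0 := fun h => by
      simp only [op, hw0 j (by omega), hw0 (j + 1) (by omega), mul_zero, add_zero]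
      split_ifs with hj0
      · rfl
      · by_cases hjl : j = c.l
        · rw [hjl, H.cA_l (by omega), zero_mul]
        · rw [hw0 (j - 1) (by omega), mul_zero]
    have z1 : j < c.r → op c μ ν w1 j = 0 := fun h => by
      simp only [op, hw1 j (by omega), mul_zero, add_zero]
      have hC : cC c μ ν (j + 1) * w1 (j + 1) = 0 := by
        by_cases hjr : j + 1 = c.r
        · rw [hjr]; exact cC_r H w1 hsup1
        · rw [hw1 (j + 1) (by omega), mul_zero]
      rw [hC, add_zero]
      split_ifs with hj0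
      · rfl
      · rw [hw1 (j - 1) (by omega), mul_zero]
    simp only [Pi.add_apply]
    rcases Nat.lt_or_ge j c.l with hjl | hjl
    · have := hop0 j (Nat.zero_le _) hjl
      rw [z1 (by omega), hw1 j (by omega)]
      linear_combination this
    · rcases Nat.lt_or_ge j c.r with hjr | hjr
      · rw [z0 hjl, z1 hjr, hopI j hjl hjr, hw0 j (by omega), hw1 j (by omega)]
        ring
      · have := hop1 j hjr hj
        rw [z0 hjl, hw0 j (by omega)]
        linear_combination this
  refine ⟨_, hker, fun h => hI0 (funext fun j => ?_)⟩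
  have h0 := congrFun (eq_zero_of_coeff_l H hg hq hker h) j
  by_cases hj : c.l ≤ j ∧ j < c.r
  · simpa [hw0 j (by omega), hw1 j (by omega)] using h0
  · exact hI j hj

theorem ker_smul_eq (hg : Good c μ ν) (hq : Sp c μ ν c.l c.r q) {v w : ℕ → k}
    (hv : IsKer c μ ν 0 (c.R + 1) q v) (hw : IsKer c μ ν 0 (c.R + 1) q w) (hv0 : v c.l ≠ 0) :
    w = (w c.l / v c.l) • v := by
  have h : IsKer c μ ν 0 (c.R + 1) q (w + (-(w c.l / v c.l)) • v) :=
    ⟨fun j hj => by simp [hv.1 j hj, hw.1 j hj], fun j h1 h2 => by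
      rw [op_add, op_smul, hv.2 j h1 h2, hw.2 j h1 h2]; simp; ring⟩
  have := eq_zero_of_coeff_l H hg hq h (by simp [hv0])
  funext j
  have hj := congrFun this j
  simp at hj ⊢
  linear_combination hj

theorem ker_endpoints (hg : Good c μ ν) (hq : Sp c μ ν c.l c.r q) {v : ℕ → k}
    (hker : IsKer c μ ν 0 (c.R + 1) q v) (hvl : v c.l ≠ 0) : v 0 ≠ 0 ∧ v c.R ≠ 0 := by
  classical
  obtain ⟨hv, hop⟩ := id hker
  have hlr : c.l < c.r := lt_of_not_ge fun h => not_sp_empty h hq
  have hr := H.r_le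
  constructor
  · intro h0
    have hex : ∃ m, v m ≠ 0 := ⟨_, hvl⟩
    have hm := Nat.find_spec hex
    have hmin : ∀ i < Nat.find hex, v i = 0 := fun i hi => not_not.1 (Nat.find_min hex hi)
    have hml : Nat.find hex ≤ c.l := Nat.find_min' hex hvl
    have hm0 : 0 < Nat.find hex := Nat.pos_of_ne_zero fun h => hm (h ▸ h0)
    have h := hop (Nat.find hex - 1) (Nat.zero_le _) (by omega)
    simp only [op, show Nat.find hex - 1 + 1 = Nat.find hex by omega] at h
    rw [hmin _ (by omega : Nat.find hex - 1 < Nat.find hex), mul_zero, mul_zero, add_zero,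
      hmin _ (by omega : Nat.find hex - 1 - 1 < Nat.find hex), mul_zero] at h
    simp only [ite_self, zero_add] at h
    have hre : c.r ≤ c.e1 := min_le_left _ _
    exact hm ((mul_eq_zero.1 h).resolve_left (H.cC_ne_zero hg.hμ hg.hν hm0 (by omega) (by omega)))
  · intro hR
    have key : ∀ i, ∀ j, c.R ≤ j + i → c.l ≤ j → j ≤ c.R → v j = 0 := by
      intro i
      induction i with
      | zero => intro j h1 _ h3; rw [show j = c.R by omega]; exact hR
      | succ i ih =>
        intro j h1 h2 h3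
        rcases Nat.eq_or_lt_of_le h3 with rfl | h3
        · exact hR
        have h := hop (j + 1) (Nat.zero_le _) (by omega)
        have z2 : cC c μ ν (j + 1 + 1) * v (j + 1 + 1) = 0 := by
          rcases Nat.lt_or_ge c.R (j + 1 + 1) with hh | hh
          · rw [hv _ (by omega), mul_zero]
          · rw [ih _ (by omega) (by omega) hh, mul_zero]
        simp only [op, if_neg (Nat.succ_ne_zero j), Nat.add_sub_cancel] at h
        rw [z2, ih (j + 1) (by omega) (by omega) (by omega)] at h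
        simp only [mul_zero, add_zero] at h
        exact (mul_eq_zero.1 h).resolve_left (H.cA_ne_zero h3 (by omega))
    exact hvl (key c.R c.l (by omega) le_rfl H.l_le)

end Groth.L03.Heun
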