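import Groth.Agent.L03.Heun.Kernel
import Groth.Agent.L13.RamP1.Basic
import Mathlib.FieldTheory.IsAlgClosed.Basic
import Mathlib.RingTheory.AdjoinRoot

/-!
# Pencils with three finite and one infinite ramification point and eigenpolynomials
-/

set_option autoImplicit false
universe u

open Polynomial

namespace Groth.L03.Heun

variable {k : Type u} [Field k] (c : Par) (μ ν : k)

/-- pencils with at least the prescribed ramification -/
def Weak (V : Submodule k k[X]) : Prop :=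
  V ≤ degreeLE k (c.d : WithBot ℕ) ∧ Module.finrank k V = 2 ∧ W4c1limliniiii.IsSeparable V ∧
    (∃ s ∈ V, s ≠ 0 ∧ X ^ c.e1 ∣ s) ∧ (∃ s ∈ V, s ≠ 0 ∧ (X - C μ) ^ c.e3 ∣ s) ∧
    (∃ s ∈ V, s ≠ 0 ∧ (X - C ν) ^ c.e4 ∣ s) ∧ ∃ s ∈ V, s ≠ 0 ∧ s.natDegree ≤ c.R

/-- the ramification polynomial -/
noncomputable def W0 : k[X] := X ^ (c.e1 - 1) * (X - C μ) ^ (c.e3 - 1) * (X - C ν) ^ (c.e4 - 1)

theorem W0_monic : (W0 c μ ν).Monic :=
  ((monic_X_pow _).mul ((monic_X_sub_C μ).pow _)).mul ((monic_X_sub_C ν).pow _)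

variable {c μ ν} (H : Hyp k c)
include H

theorem natDegree_W0 : (W0 c μ ν).natDegree + 1 = c.d + c.R := by
  rw [W0, ((monic_X_pow _).mul ((monic_X_sub_C μ).pow _)).natDegree_mul ((monic_X_sub_C ν).pow _),
    (monic_X_pow _).natDegree_mul ((monic_X_sub_C μ).pow _), natDegree_pow, natDegree_pow, natDegree_pow,
    natDegree_X, natDegree_X_sub_C, natDegree_X_sub_C]
  have := H.h1; have := H.h14; have := H.h43; have := H.hsum
  omega

omit H in
theorem sub_mul_derivative_pow (a : k) (m : ℕ) :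
    (X - C a) * derivative ((X - C a) ^ m) = C (m : k) * (X - C a) ^ m := by
  cases m with
  | zero => simp
  | succ m =>
    rw [derivative_pow, derivative_sub, derivative_X, derivative_C, sub_zero, mul_one, Nat.add_sub_cancel, pow_succ]
    ring

theorem pi_mul_derivative_W0 : piPoly μ ν * derivative (W0 c μ ν) = rhoPoly c μ ν * W0 c μ ν := by
  have h1 := H.h1; have := H.h14; have := H.h43
  have e1 : ((c.e1 - 1 : ℕ) : k) = (c.e1 : k) - 1 := by rw [Nat.cast_sub (by omega), Nat.cast_one]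
  have e3 : ((c.e3 - 1 : ℕ) : k) = (c.e3 : k) - 1 := by rw [Nat.cast_sub (by omega), Nat.cast_one]
  have e4 : ((c.e4 - 1 : ℕ) : k) = (c.e4 : k) - 1 := by rw [Nat.cast_sub (by omega), Nat.cast_one]
  have a := sub_mul_derivative_pow (0 : k) (c.e1 - 1)
  rw [map_zero, sub_zero] at a
  have b := sub_mul_derivative_pow μ (c.e3 - 1)
  have d := sub_mul_derivative_pow ν (c.e4 - 1)
  rw [e1] at a; rw [e3] at b; rw [e4] at d
  simp only [W0, piPoly, rhoPoly, derivative_mul]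
  linear_combination ((X - C μ) * (X - C ν) * (X - C μ) ^ (c.e3 - 1) * (X - C ν) ^ (c.e4 - 1)) * a +
    (X * (X - C ν) * X ^ (c.e1 - 1) * (X - C ν) ^ (c.e4 - 1)) * b +
    (X * (X - C μ) * X ^ (c.e1 - 1) * (X - C μ) ^ (c.e3 - 1)) * d

omit H in
theorem L_add (F G : k[X]) : L c μ ν (F + G) = L c μ ν F + L c μ ν G := by
  simp only [L, derivative_add]; ring

omit H in
theorem L_C_mul (t : k) (F : k[X]) : L c μ ν (C t * F) = C t * L c μ ν F := by
  simp only [L, derivative_C_mul]; ring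

theorem cross_L {F G : k[X]} {γ : k} (hW : wronskian F G = C γ * W0 c μ ν) :
    F * L c μ ν G = G * L c μ ν F := by
  have h2 : F * derivative (derivative G) - derivative (derivative F) * G = C γ * derivative (W0 c μ ν) := by
    rw [← derivative_C_mul, ← hW, wronskian, derivative_sub, derivative_mul, derivative_mul]; ring
  rw [wronskian] at hW
  simp only [L]
  linear_combination (piPoly μ ν) * h2 - (rhoPoly c μ ν) * hW + C γ * (pi_mul_derivative_W0 (μ := μ) (ν := ν) H)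

omit H in
theorem eval_W0_cofactor (hμ : μ ≠ 0) (hν : ν ≠ 0) (hne : μ ≠ ν) :
    ((X - C μ) ^ (c.e3 - 1) * (X - C ν) ^ (c.e4 - 1)).eval 0 ≠ 0 ∧
    (X ^ (c.e1 - 1) * (X - C ν) ^ (c.e4 - 1)).eval μ ≠ 0 ∧
    (X ^ (c.e1 - 1) * (X - C μ) ^ (c.e3 - 1)).eval ν ≠ 0 := by
  simp [hμ, hν, sub_ne_zero.2 hne, sub_ne_zero.2 hne.symm, pow_ne_zero]

theorem not_dvd_W0 (hμ : μ ≠ 0) (hν : ν ≠ 0) (hne : μ ≠ ν) :
    ¬ X ^ c.e1 ∣ W0 c μ ν ∧ ¬ (X - C μ) ^ c.e3 ∣ W0 c μ ν ∧ ¬ (X - C ν) ^ c.e4 ∣ W0 c μ ν := by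
  obtain ⟨a, b, d⟩ := eval_W0_cofactor (c := c) hμ hν hne
  have := H.h1; have := H.h14; have := H.h43
  have key : ∀ (x : k) (e : ℕ) (Q : k[X]), 0 < e → Q.eval x ≠ 0 → ¬ (X - C x) ^ e ∣ (X - C x) ^ (e - 1) * Q := by
    intro x e Q he hQ h
    conv_lhs at h => rw [show e = e - 1 + 1 by omega, pow_succ]
    exact hQ (dvd_iff_isRoot.1 ((mul_dvd_mul_iff_left (pow_ne_zero _ (X_sub_C_ne_zero x))).1 h))
  refine ⟨fun h => ?_, fun h => key μ c.e3 _ (by omega) b ?_, fun h => key ν c.e4 _ (by omega) d ?_⟩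
  · exact key 0 c.e1 _ (by omega) a (by rw [map_zero, sub_zero, ← mul_assoc]; exact h)
  · rw [W0] at h; convert h using 1; ring
  · rw [W0] at h; convert h using 1; ring

variable [IsAlgClosed k]

omit H in
theorem isCoprime_of_no_common_root {F G : k[X]} (hF : F ≠ 0) (h : ∀ x, F.eval x = 0 → G.eval x ≠ 0) : IsCoprime F G := by
  refine isCoprime_of_irreducible_dvd (fun hh => hF hh.1) fun q hq hqF hqG => ?_
  obtain ⟨x, hx⟩ := IsAlgClosed.exists_root q (fun h0 => hq.not_isUnit (isUnit_iff_degree_eq_zero.2 h0))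
  exact h x ((hx.dvd hqF)) (hx.dvd hqG)

/-- normal form of a pencil -/
theorem exists_basis_of_weak (hμ : μ ≠ 0) (hν : ν ≠ 0) (hne : μ ≠ ν) {V : Submodule k k[X]} (hV : Weak c μ ν V) :
    ∃ (F G : k[X]) (γ q : k), V = Submodule.span k {F, G} ∧ γ ≠ 0 ∧ F.natDegree = c.R ∧ F ≠ 0 ∧ G.natDegree = c.d ∧
      wronskian F G = C γ * W0 c μ ν ∧ L c μ ν F = C q * F ∧ L c μ ν G = C q * G ∧
      (F.eval 0 = 0 → G.eval 0 ≠ 0) ∧ (F.eval 0 = 0 → c.e1 ≤ c.R) := by
  obtain ⟨hle, hrk, hsep, hs1, hs3, hs4, F, hFV, hF0, hFR⟩ := hV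
  obtain ⟨G, hGV, hVs⟩ := L13.RamP1.exists_second hrk hFV hF0
  have hw : wronskian F G ≠ 0 := L13.RamP1.isSeparable_iff.1 (hVs ▸ hsep)
  have hmem : ∀ {s : k[X]}, s ∈ V → s ∈ Submodule.span k ({F, G} : Set k[X]) := fun h => hVs ▸ h
  have hdvd : ∀ {x : k} {e : ℕ}, (∃ s ∈ V, s ≠ 0 ∧ (X - C x) ^ e ∣ s) → (X - C x) ^ (e - 1) ∣ wronskian F G := by
    rintro x e ⟨s, hsV, hs0, hse⟩
    obtain ⟨t, htV, hVt⟩ := L13.RamP1.exists_second hrk hsV hs0
    obtain ⟨a, ha⟩ := L13.RamP1.exists_smul_wronskian (F := s) (G := t) (hVt ▸ hFV) (hVt ▸ hGV)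
    rw [ha]
    exact (L13.RamP1.dvd_wronskian_of_left hse).mul_left _
  have hd1 := hdvd (x := 0) (e := c.e1) (by simpa using hs1)
  rw [map_zero, sub_zero] at hd1
  have hW : W0 c μ ν ∣ wronskian F G := by
    have c13 : IsCoprime (X : k[X]) (X - C μ) := by
      simpa using isCoprime_X_sub_C_of_isUnit_sub (a := (0 : k)) (b := μ) (by simpa using hμ)
    have c14 : IsCoprime (X : k[X]) (X - C ν) := by
      simpa using isCoprime_X_sub_C_of_isUnit_sub (a := (0 : k)) (b := ν) (by simpa using hν)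
    exact (c14.pow.mul_left (isCoprime_X_sub_C_of_isUnit_sub (sub_ne_zero.2 hne).isUnit).pow).mul_dvd
      (c13.pow.mul_dvd hd1 (hdvd hs3)) (hdvd hs4)
  obtain ⟨cc, hcc⟩ := hW
  have hcc0 : cc ≠ 0 := fun h => hw (by rw [hcc, h, mul_zero])
  have hGd := L13.RamP1.natDegree_le_of_mem (hle hGV)
  have hlt := natDegree_wronskian_lt_add hw
  have hdeg : (wronskian F G).natDegree = (W0 c μ ν).natDegree + cc.natDegree := by
    rw [hcc, natDegree_mul (W0_monic c μ ν).ne_zero hcc0]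
  have hW0d := natDegree_W0 (μ := μ) (ν := ν) H
  obtain ⟨γ, rfl⟩ : ∃ γ, cc = C γ := ⟨_, eq_C_of_natDegree_eq_zero (by omega)⟩
  have hγ : γ ≠ 0 := fun h => hcc0 (by rw [h, map_zero])
  have hW' : wronskian F G = C γ * W0 c μ ν := by rw [hcc, mul_comm]
  have hcop : ∀ x, F.eval x = 0 → G.eval x ≠ 0 := by
    intro x hFx hGx
    have hall : ∀ s ∈ V, (X - C x) ∣ s := fun s hs => by
      obtain ⟨a, b, rfl⟩ := Submodule.mem_span_pair.1 (hmem hs)
      rw [dvd_iff_isRoot, IsRoot]; simp [hFx, hGx]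
    have big : ∀ {e : ℕ}, (∃ s ∈ V, s ≠ 0 ∧ (X - C x) ^ e ∣ s) → (X - C x) ^ e ∣ W0 c μ ν := by
      rintro e ⟨s, hsV, hs0, hse⟩
      obtain ⟨t, htV, hVt⟩ := L13.RamP1.exists_second hrk hsV hs0
      obtain ⟨a, ha⟩ := L13.RamP1.exists_smul_wronskian (F := s) (G := t) (hVt ▸ hFV) (hVt ▸ hGV)
      have := (L13.RamP1.dvd_wronskian_of_both hse (hall t htV)).mul_left (C a)
      rw [← ha, hW'] at this
      exact (IsUnit.dvd_mul_left (isUnit_C.2 hγ.isUnit)).1 this
    obtain ⟨n1, n3, n4⟩ := not_dvd_W0 H hμ hν hne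
    rcases eq_or_ne x 0 with rfl | x0
    · have := big (e := c.e1) (by simpa using hs1)
      rw [map_zero, sub_zero] at this
      exact n1 this
    rcases eq_or_ne x μ with rfl | xμ
    · exact n3 (big hs3)
    rcases eq_or_ne x ν with rfl | xν
    · exact n4 (big hs4)
    have h1 : (X - C x) ∣ wronskian F G := by
      simpa using L13.RamP1.dvd_wronskian_of_both (m := 1) (by simpa using hall F hFV) (hall G hGV)
    rw [hW', dvd_iff_isRoot, IsRoot] at h1
    simp [W0, hγ, x0, sub_ne_zero.2 xμ, sub_ne_zero.2 xν, pow_eq_zero_iff'] at h1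
  have hLFd : (L c μ ν F).natDegree ≤ c.R := by
    rw [natDegree_le_iff_coeff_eq_zero]
    intro j hj
    rw [coeff_L c μ ν H.cast_sum, op, if_neg (by omega), coeff_eq_zero_of_natDegree_lt (show F.natDegree < j by omega),
      coeff_eq_zero_of_natDegree_lt (show F.natDegree < j + 1 by omega)]
    rcases Nat.eq_or_lt_of_le (show c.R ≤ j - 1 by omega) with h | h
    · rw [← h, cA_R]; ring
    · rw [coeff_eq_zero_of_natDegree_lt (show F.natDegree < j - 1 by omega)]; ring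
  have hcross := cross_L H hW'
  have hdv : F ∣ L c μ ν F := (isCoprime_of_no_common_root hF0 hcop).dvd_of_dvd_mul_left ⟨_, hcross.symm⟩
  obtain ⟨ℓ, hℓ⟩ := hdv
  have hFd : F.natDegree = c.R := by omega
  obtain ⟨q, hq⟩ : ∃ q, L c μ ν F = C q * F := by
    by_cases hℓ0 : ℓ = 0
    · exact ⟨0, by simp [hℓ, hℓ0]⟩
    · have h := congrArg natDegree hℓ
      rw [natDegree_mul hF0 hℓ0] at h
      exact ⟨ℓ.coeff 0, by rw [hℓ, mul_comm]; congr 1; exact eq_C_of_natDegree_eq_zero (by omega)⟩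
  have hqG : L c μ ν G = C q * G := by
    rw [hq] at hcross
    exact mul_left_cancel₀ hF0 (by linear_combination hcross)
  refine ⟨F, G, γ, q, hVs, hγ, hFd, hF0, by omega, hW', hq, hqG, hcop 0, fun hF00 => ?_⟩
  obtain ⟨s, hsV, hs0, hse⟩ := hs1
  obtain ⟨a, b, rfl⟩ := Submodule.mem_span_pair.1 (hmem hsV)
  have he1 := H.h1
  have h0 : (a • F + b • G).eval 0 = 0 := by
    have : (X - C (0 : k)) ∣ a • F + b • G := by
      rw [map_zero, sub_zero]; exact (dvd_pow_self X (by omega)).trans hse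
    exact dvd_iff_isRoot.1 this
  have hb : b = 0 := by simpa [hF00, hcop 0 hF00] using h0
  subst hb
  rw [zero_smul, add_zero] at hse hs0
  have := natDegree_le_of_dvd hse hs0
  rw [natDegree_pow, natDegree_X, mul_one] at this
  exact this.trans ((natDegree_smul_le _ _).trans hFR)

/-- the accessory parameter of a pencil is a window eigenvalue -/
theorem sp_of_weak (hg : Good c μ ν) {V : Submodule k k[X]} (hV : Weak c μ ν V) :
    ∃ (F : k[X]) (q : k), F ∈ V ∧ F ≠ 0 ∧ F.natDegree = c.R ∧ L c μ ν F = C q * F ∧ Sp c μ ν c.l c.r q := by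
  obtain ⟨F, G, γ, q, hVs, -, hFd, hF0, -, -, hLF, hLG, hbp, he⟩ := exists_basis_of_weak H hg.hμ hg.hν hg.hne hV
  refine ⟨F, q, hVs ▸ Submodule.subset_span (by simp), hF0, hFd, hLF, ?_⟩
  have hop : ∀ P : k[X], L c μ ν P = C q * P → ∀ j, op c μ ν P.coeff j = q * P.coeff j := fun P hP j => by
    rw [← coeff_L c μ ν H.cast_sum, hP, coeff_C_mul]
  refine sp_window H hg ?_ ?_
  · by_cases h0 : F.eval 0 = 0
    · have hr : c.r = c.e1 := min_eq_left (by have := he h0; omega)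
      rw [hr]
      refine sp_restr (v := G.coeff) (fun j _ _ => hop G hLG j) (fun h => absurd h (lt_irrefl 0))
        (by rw [cC_e1, zero_mul]) (Nat.zero_le 0) (by have := H.h1; omega) ?_
      rw [coeff_zero_eq_eval_zero]; exact hbp h0
    · refine sp_restr (v := F.coeff) (fun j _ _ => hop F hLF j) (fun h => absurd h (lt_irrefl 0)) ?_
        (Nat.zero_le 0) (lt_min (by have := H.h1; omega) (Nat.succ_pos _)) (by rwa [coeff_zero_eq_eval_zero])
      rcases min_choice c.e1 (c.R + 1) with h | h <;> rw [Par.r, h]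
      · rw [cC_e1, zero_mul]
      · rw [coeff_eq_zero_of_natDegree_lt (by omega), mul_zero]
  · refine sp_restr (v := F.coeff) (fun j _ _ => hop F hLF j) (fun h => by rw [H.cA_l h, zero_mul]) ?_
      H.l_le (Nat.lt_succ_self _) (by rw [← hFd]; exact leadingCoeff_ne_zero.2 hF0)
    rw [coeff_eq_zero_of_natDegree_lt (by omega), mul_zero]

end Groth.L03.Heun
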