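import Groth.Agent.L03.Heun.Pencil
import Mathlib.Algebra.Polynomial.Reverse
import Mathlib.Algebra.Polynomial.AlgebraMap
import Mathlib.Algebra.Module.Submodule.Map

/-!
# Moving one of four points to infinity
-/

set_option autoImplicit false
universe u

open Polynomial

namespace Groth.L03.Heun

variable {k : Type u} [Field k]

/-- substitution `X ↦ u X + v` -/
noncomputable def aff (u v : k) [Invertible u] : k[X] ≃ₐ[k] k[X] := algEquivCMulXAddC u v

theorem aff_apply (u v : k) [Invertible u] (f : k[X]) : aff u v f = f.comp (C u * X + C v) := by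
  simp [aff, comp, aeval_def]

theorem natDegree_aff (u v : k) [Invertible u] (f : k[X]) : (aff u v f).natDegree = f.natDegree := by
  rw [aff_apply, natDegree_comp, natDegree_linear (Invertible.ne_zero u), mul_one]

theorem pow_dvd_aff_iff (u v x : k) [Invertible u] (m : ℕ) (f : k[X]) :
    (X - C x) ^ m ∣ aff u v f ↔ (X - C (u * x + v)) ^ m ∣ f := by
  have hu : u ≠ 0 := Invertible.ne_zero u
  have e : aff u v ((X - C (u * x + v)) ^ m) = C (u ^ m) * (X - C x) ^ m := by
    rw [map_pow, aff_apply, sub_comp, X_comp, C_comp, map_pow, ← mul_pow, map_add, map_mul]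
    ring
  rw [← map_dvd_iff (aff u v) (a := (X - C (u * x + v)) ^ m), e,
    IsUnit.mul_left_dvd (isUnit_C.2 (pow_ne_zero m hu).isUnit)]

theorem wronskian_aff (u v : k) [Invertible u] (f g : k[X]) :
    wronskian (aff u v f) (aff u v g) = C u * aff u v (wronskian f g) := by
  simp only [aff_apply, wronskian, derivative_comp, derivative_add, derivative_C_mul, derivative_X, derivative_C,
    mul_one, add_zero, sub_comp, mul_comp]
  ring

/-- `reflect d` as a linear involution -/
noncomputable def refl (d : ℕ) : k[X] ≃ₗ[k] k[X] where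
  toFun := reflect d
  map_add' f g := reflect_add f g d
  map_smul' t f := by rw [smul_eq_C_mul, reflect_C_mul, RingHom.id_apply, smul_eq_C_mul]
  invFun := reflect d
  left_inv f := Polynomial.ext fun i => by rw [coeff_reflect, coeff_reflect, revAt_invol]
  right_inv f := Polynomial.ext fun i => by rw [coeff_reflect, coeff_reflect, revAt_invol]

theorem refl_apply (d : ℕ) (f : k[X]) : refl d f = reflect d f := rfl

theorem reflect_reflect (d : ℕ) (f : k[X]) : reflect d (reflect d f) = f := (refl d).symm_apply_apply f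

theorem natDegree_reflect (d : ℕ) {f : k[X]} (hf : f.natDegree ≤ d) : (reflect d f).natDegree ≤ d :=
  natDegree_reflect_le.trans (max_le le_rfl hf)

theorem natDegree_reflect_add_le_iff {d m : ℕ} {f : k[X]} (hf : f.natDegree ≤ d) (hf0 : f ≠ 0) :
    (reflect d f).natDegree + m ≤ d ↔ X ^ m ∣ f := by
  rw [X_pow_dvd_iff]
  constructor
  · intro h j hj
    have e := coeff_reflect d f (d - j)
    rw [revAt_le (Nat.sub_le d j), coeff_eq_zero_of_natDegree_lt (by omega), show d - (d - j) = j by omega] at e
    exact e.symm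
  · intro h
    have hmd : m ≤ d := by
      by_contra hcon
      exact hf0 (Polynomial.ext fun j => by
        rw [coeff_zero]
        rcases Nat.lt_or_ge j m with hj | hj
        · exact h j hj
        · exact coeff_eq_zero_of_natDegree_lt (by omega))
    suffices (reflect d f).natDegree ≤ d - m by omega
    rw [natDegree_le_iff_coeff_eq_zero]
    intro j hj
    rw [coeff_reflect]
    rcases Nat.lt_or_ge d j with hdj | hdj
    · rw [← revAtFun_eq, revAtFun, if_neg (by omega)]
      exact coeff_eq_zero_of_natDegree_lt (by omega)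
    · rw [revAt_le hdj]
      exact h _ (by omega)

theorem pow_dvd_reflect {d : ℕ} {f : k[X]} (hf : f.natDegree ≤ d) {y : k} (hy : y ≠ 0) {m : ℕ}
    (h : (X - C y) ^ m ∣ f) : (X - C y⁻¹) ^ m ∣ reflect d f := by
  rcases eq_or_ne f 0 with rfl | hf0
  · simp
  obtain ⟨g, rfl⟩ := h
  have hg0 : g ≠ 0 := right_ne_zero_of_mul hf0
  have hdeg : ((X - C y) ^ m).natDegree = m := by rw [natDegree_pow, natDegree_X_sub_C, mul_one]
  rw [natDegree_mul (left_ne_zero_of_mul hf0) hg0, hdeg] at hf
  rw [show d = m + (d - m) by omega, reflect_mul _ _ hdeg.le (by omega)]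
  have e : ∀ n, reflect n ((X - C y) ^ n) = (C (-y) * (X - C y⁻¹)) ^ n := by
    intro n
    induction n with
    | zero => simp
    | succ n ih =>
      rw [pow_succ, reflect_mul _ _ (by rw [natDegree_pow, natDegree_X_sub_C, mul_one]) (natDegree_X_sub_C y).le, ih,
        pow_succ]
      congr 1
      rw [reflect_sub, ← pow_one (X : k[X]), reflect_monomial, reflect_C, pow_one]
      rw [show revAt 1 1 = 0 from by rw [revAt_le le_rfl], pow_zero, mul_sub, ← map_mul, neg_mul, mul_inv_cancel₀ hy,
        map_neg, map_neg, map_one]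
      ring
  rw [e, mul_pow]
  exact (dvd_mul_left _ _).mul_right _

theorem pow_dvd_reflect_iff {d : ℕ} {f : k[X]} (hf : f.natDegree ≤ d) {y : k} (hy : y ≠ 0) (m : ℕ) :
    (X - C y) ^ m ∣ reflect d f ↔ (X - C y⁻¹) ^ m ∣ f := by
  refine ⟨fun h => ?_, fun h => ?_⟩
  · have := pow_dvd_reflect (natDegree_reflect d hf) hy h
    rwa [reflect_reflect] at this
  · simpa using pow_dvd_reflect hf (inv_ne_zero hy) h

theorem X_mul_derivative_reflect (d : ℕ) {f : k[X]} (hf : f.natDegree ≤ d) :
    X * derivative (reflect d f) = C (d : k) * reflect d f - reflect d (X * derivative f) := by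
  have key : ∀ (g : k[X]) (j : ℕ), (X * derivative g).coeff j = (j : k) * g.coeff j := fun g j => by
    cases j with
    | zero => simp
    | succ j => rw [coeff_X_mul, coeff_derivative]; push_cast; ring
  ext j
  rw [key, coeff_sub, coeff_C_mul, coeff_reflect, coeff_reflect, key]
  rcases Nat.lt_or_ge d j with hdj | hdj
  · rw [← revAtFun_eq, revAtFun, if_neg (by omega), coeff_eq_zero_of_natDegree_lt (show f.natDegree < j by omega)]
    ring
  · rw [revAt_le hdj, Nat.cast_sub hdj]; ring

theorem wronskian_reflect_eq_zero {d : ℕ} {f g : k[X]} (hf : f.natDegree ≤ d) (hg : g.natDegree ≤ d)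
    (h : wronskian f g = 0) : wronskian (reflect d f) (reflect d g) = 0 := by
  have hd : ∀ {p : k[X]}, p.natDegree ≤ d → (X * derivative p).natDegree ≤ d := fun {p} hp => by
    rcases eq_or_ne (derivative p) 0 with h0 | h0
    · simp [h0]
    · have := natDegree_derivative_lt (p := p) (fun hp0 => h0 (by rw [eq_C_of_natDegree_eq_zero hp0, derivative_C]))
      rw [natDegree_mul X_ne_zero h0, natDegree_X]
      omega
  refine (mul_eq_zero.1 (?_ : X * wronskian (reflect d f) (reflect d g) = 0)).resolve_left X_ne_zero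
  have e1 : reflect d f * reflect d (X * derivative g) = reflect (d + d) (f * (X * derivative g)) :=
    (reflect_mul _ _ hf (hd hg)).symm
  have e2 : reflect d (X * derivative f) * reflect d g = reflect (d + d) (X * derivative f * g) :=
    (reflect_mul _ _ (hd hf) hg).symm
  have e3 : f * (X * derivative g) = X * derivative f * g := by
    rw [wronskian] at h; linear_combination X * h
  rw [e3] at e1
  rw [wronskian]
  linear_combination reflect d f * X_mul_derivative_reflect d hg - reflect d g * X_mul_derivative_reflect d hf - e1 + e2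

variable (d : ℕ) (u v a : k) [Invertible u]

local instance invertibleOne' : Invertible (1 : k) := invertibleOne

/-- `X ↦ a + 1 / (u X + v)` on forms of degree `d` -/
noncomputable def move : k[X] ≃ₗ[k] k[X] :=
  ((aff (1 : k) a).toLinearEquiv.trans (refl d)).trans (aff u v).toLinearEquiv

theorem move_apply (f : k[X]) : move d u v a f = aff u v (reflect d (aff 1 a f)) := rfl

theorem natDegree_move_le_iff (f : k[X]) : (move d u v a f).natDegree ≤ d ↔ f.natDegree ≤ d := by
  rw [move_apply, natDegree_aff]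
  refine ⟨fun h => ?_, fun h => natDegree_reflect d (by rwa [natDegree_aff])⟩
  have := natDegree_reflect d h
  rwa [reflect_reflect, natDegree_aff] at this

theorem pow_dvd_move_iff {f : k[X]} (hf : f.natDegree ≤ d) {x P : k} (hx : (u * x + v) * (P - a) = 1) (m : ℕ) :
    (X - C x) ^ m ∣ move d u v a f ↔ (X - C P) ^ m ∣ f := by
  rw [move_apply, pow_dvd_aff_iff, pow_dvd_reflect_iff (by rwa [natDegree_aff]) (left_ne_zero_of_mul_eq_one hx),
    pow_dvd_aff_iff, inv_eq_of_mul_eq_one_right hx, one_mul, sub_add_cancel]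

theorem natDegree_move_add_le_iff {f : k[X]} (hf : f.natDegree ≤ d) (hf0 : f ≠ 0) (m : ℕ) :
    (move d u v a f).natDegree + m ≤ d ↔ (X - C a) ^ m ∣ f := by
  rw [move_apply, natDegree_aff, natDegree_reflect_add_le_iff (by rwa [natDegree_aff])
    (fun h => hf0 ((map_eq_zero_iff _ (aff (1 : k) a).injective).1 h))]
  have := pow_dvd_aff_iff (1 : k) a 0 m f
  rwa [map_zero, sub_zero, mul_zero, zero_add] at this

theorem map_le_degreeLE_iff (V : Submodule k k[X]) :
    V.map (move d u v a).toLinearMap ≤ degreeLE k (d : WithBot ℕ) ↔ V ≤ degreeLE k (d : WithBot ℕ) := by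
  rw [Submodule.map_le_iff_le_comap]
  refine forall_congr' fun f => imp_congr_right fun _ => ?_
  rw [Submodule.mem_comap, mem_degreeLE, mem_degreeLE, ← natDegree_le_iff_degree_le, ← natDegree_le_iff_degree_le]
  exact natDegree_move_le_iff d u v a f

theorem isSeparable_map_iff {V : Submodule k k[X]} (hV : V ≤ degreeLE k (d : WithBot ℕ)) :
    W4c1limliniiii.IsSeparable (V.map (move d u v a).toLinearMap) ↔ W4c1limliniiii.IsSeparable V := by
  have key : ∀ {f g : k[X]}, f ∈ V → g ∈ V →
      (wronskian (move d u v a f) (move d u v a g) = 0 ↔ wronskian f g = 0) := by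
    intro f g hf hg
    have hu : u ≠ 0 := Invertible.ne_zero u
    have hfd : (aff (1 : k) a f).natDegree ≤ d := by rw [natDegree_aff]; exact L13.RamP1.natDegree_le_of_mem (hV hf)
    have hgd : (aff (1 : k) a g).natDegree ≤ d := by rw [natDegree_aff]; exact L13.RamP1.natDegree_le_of_mem (hV hg)
    rw [move_apply, move_apply, wronskian_aff, mul_eq_zero, C_eq_zero, or_iff_right hu, map_eq_zero_iff _ (aff u v).injective]
    constructor
    · intro h
      have := wronskian_reflect_eq_zero (natDegree_reflect d hfd) (natDegree_reflect d hgd) h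
      rw [reflect_reflect, reflect_reflect, wronskian_aff, map_one, one_mul] at this
      exact (map_eq_zero_iff _ (aff (1 : k) a).injective).1 this
    · intro h
      refine wronskian_reflect_eq_zero hfd hgd ?_
      rw [wronskian_aff, h, map_zero, mul_zero]
  constructor
  · rintro ⟨_, ⟨f, hf, rfl⟩, _, ⟨g, hg, rfl⟩, h⟩
    exact ⟨f, hf, g, hg, fun h0 => h ((key hf hg).2 h0)⟩
  · rintro ⟨f, hf, g, hg, h⟩
    exact ⟨_, ⟨f, hf, rfl⟩, _, ⟨g, hg, rfl⟩, fun h0 => h ((key hf hg).1 h0)⟩

theorem exists_mem_map_iff {V : Submodule k k[X]} (hV : V ≤ degreeLE k (d : WithBot ℕ)) {Q Q' : k[X] → Prop}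
    (h : ∀ f : k[X], f.natDegree ≤ d → f ≠ 0 → (Q (move d u v a f) ↔ Q' f)) :
    (∃ s ∈ V.map (move d u v a).toLinearMap, s ≠ 0 ∧ Q s) ↔ ∃ s ∈ V, s ≠ 0 ∧ Q' s := by
  constructor
  · rintro ⟨_, ⟨f, hf, rfl⟩, h0, hQ⟩
    have hf0 : f ≠ 0 := fun hh => h0 (by rw [hh, map_zero])
    exact ⟨f, hf, hf0, (h f (L13.RamP1.natDegree_le_of_mem (hV hf)) hf0).1 hQ⟩
  · rintro ⟨f, hf, hf0, hQ⟩
    exact ⟨_, ⟨f, hf, rfl⟩, fun hh => hf0 ((map_eq_zero_iff _ (move d u v a).injective).1 hh),
      (h f (L13.RamP1.natDegree_le_of_mem (hV hf)) hf0).2 hQ⟩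

end Groth.L03.Heun
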