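import Mathlib.LinearAlgebra.Matrix.Charpoly.Basic
import Mathlib.LinearAlgebra.Matrix.Charpoly.Coeff
import Mathlib.LinearAlgebra.Matrix.ToLinearEquiv
import Mathlib.Algebra.Polynomial.Derivative
import Mathlib.Tactic.Ring
import Mathlib.Tactic.LinearCombination

/-!
# The three-term recurrence of the Heun operator with three finite and one infinite exponent
-/

set_option autoImplicit false
universe u v

open Polynomial

namespace Groth.L03.Heun

/-- exponent data: `e1, e3, e4` at the finite points, `d - R` at infinity, `p` the characteristic -/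
structure Par where
  (p d e1 e3 e4 R : ℕ)

variable {k : Type u} [CommRing k] (c : Par) (μ ν : k)

/-- raising coefficient -/
def cA (m : ℕ) : k := ((m : k) - c.d) * ((m : k) - c.R)

/-- diagonal coefficient -/
def cB (m : ℕ) : k :=
  -(μ + ν) * ((m : k) * ((m : k) - 1)) +
    (m : k) * (((c.e1 : k) - 1) * (μ + ν) + ((c.e3 : k) - 1) * ν + ((c.e4 : k) - 1) * μ)

/-- lowering coefficient -/
def cC (m : ℕ) : k := μ * ν * ((m : k) * ((m : k) - c.e1))

/-- the recurrence -/
def op (a : ℕ → k) (j : ℕ) : k :=
  (if j = 0 then 0 else cA c (j - 1) * a (j - 1)) + cB c μ ν j * a j + cC c μ ν (j + 1) * a (j + 1)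

theorem op_add (a b : ℕ → k) (j : ℕ) : op c μ ν (a + b) j = op c μ ν a j + op c μ ν b j := by
  simp only [op, Pi.add_apply]
  split_ifs <;> ring

theorem op_smul (t : k) (a : ℕ → k) (j : ℕ) : op c μ ν (t • a) j = t * op c μ ν a j := by
  simp only [op, Pi.smul_apply, smul_eq_mul]
  split_ifs <;> ring

/-- `X (X - μ) (X - ν)` -/
noncomputable def piPoly : k[X] := X * (X - C μ) * (X - C ν)

/-- the first order coefficient -/
noncomputable def rhoPoly : k[X] :=
  C ((c.e1 : k) - 1) * ((X - C μ) * (X - C ν)) + C ((c.e3 : k) - 1) * (X * (X - C ν)) +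
    C ((c.e4 : k) - 1) * (X * (X - C μ))

/-- the Heun operator without accessory parameter -/
noncomputable def L (F : k[X]) : k[X] :=
  piPoly μ ν * derivative (derivative F) - rhoPoly c μ ν * derivative F + C ((c.d : k) * c.R) * (X * F)

theorem coeff_L (he : ((c.e1 : k) + c.e3 + c.e4) = c.d + c.R + 2) (F : k[X]) (j : ℕ) :
    (L c μ ν F).coeff j = op c μ ν F.coeff j := by
  induction F using Polynomial.induction_on' with
  | add p q hp hq =>
    have h1 : L c μ ν (p + q) = L c μ ν p + L c μ ν q := by simp only [L, derivative_add]; ring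
    rw [h1, coeff_add, hp, hq, ← op_add]
    exact congrArg (fun a => op c μ ν a j) (funext fun i => (coeff_add p q i).symm)
  | monomial m r =>
    have key : L c μ ν (monomial m r) = monomial (m + 1) (cA c m * r) + monomial m (cB c μ ν m * r) +
        C (cC c μ ν m * r) * X ^ (m - 1) := by
      simp only [L, piPoly, rhoPoly, cA, cB, cC, derivative_monomial]
      rcases m with _ | _ | m
      · simp only [← C_mul_X_pow_eq_monomial, Nat.cast_zero, mul_zero, map_zero, zero_mul, pow_zero, mul_one,
          map_mul, map_sub, map_add, map_natCast, map_one, map_neg, pow_one, Nat.zero_sub]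
        ring
      · simp only [← C_mul_X_pow_eq_monomial, Nat.cast_zero, Nat.cast_one, Nat.zero_add, Nat.sub_self, mul_zero,
          map_zero, zero_mul, pow_zero, mul_one, map_mul, map_sub, map_add, map_natCast, map_one, map_neg, pow_one]
        have he' := congrArg (C : k → k[X]) he
        simp only [map_add, map_natCast, map_ofNat] at he'
        linear_combination (-(C r * X ^ 2)) * he'
      · simp only [← C_mul_X_pow_eq_monomial, show m + 1 + 1 - 1 = m + 1 by omega, show m + 1 - 1 = m by omega,
          Nat.cast_add, Nat.cast_one, map_mul, map_sub, map_add, map_natCast, map_one, map_neg, pow_succ]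
        have he' := congrArg (C : k → k[X]) he
        simp only [map_add, map_natCast, map_ofNat] at he'
        linear_combination (-(((m : k[X]) + 2) * C r * X ^ m * X ^ 3)) * he'
    rw [key, coeff_add, coeff_add, coeff_monomial, coeff_monomial, coeff_C_mul_X_pow]
    simp only [op, coeff_monomial, mul_ite, mul_zero]
    congr 1
    · congr 1
      · rcases j with _ | j
        · simp
        · simp only [Nat.add_right_cancel_iff, Nat.succ_ne_zero, if_false, Nat.add_sub_cancel]
          split_ifs with h
          · subst h; rfl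
          · rfl
      · split_ifs with h
        · subst h; rfl
        · rfl
    · rcases m with _ | m
      · simp [cC]
      · simp only [Nat.add_sub_cancel, Nat.add_right_cancel_iff]
        by_cases h : j = m
        · subst h; simp
        · rw [if_neg h, if_neg (Ne.symm h)]

/-! ### Spectrum of an interval -/

/-- `v` is supported in `[a, b)` -/
def Supp (a b : ℕ) (v : ℕ → k) : Prop := ∀ j, ¬(a ≤ j ∧ j < b) → v j = 0

/-- `v` solves the truncated eigen-equations on `[a, b)` -/
def IsKer (a b : ℕ) (q : k) (v : ℕ → k) : Prop :=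
  Supp a b v ∧ ∀ j, a ≤ j → j < b → op c μ ν v j = q * v j

/-- `q` is an eigenvalue of the truncation to `[a, b)` -/
def Sp (a b : ℕ) (q : k) : Prop := ∃ v, IsKer c μ ν a b q v ∧ v ≠ 0

/-- the truncated matrix -/
def mat (a b : ℕ) : Matrix (Fin (b - a)) (Fin (b - a)) k :=
  Matrix.of fun i j => (if (j : ℕ) + 1 = i then cA c (a + j) else 0) +
    (if (j : ℕ) = i then cB c μ ν (a + j) else 0) + (if (j : ℕ) = (i : ℕ) + 1 then cC c μ ν (a + j) else 0)

theorem mat_mulVec (a b : ℕ) (v : ℕ → k) (hv : Supp a b v) (i : Fin (b - a)) :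
    (mat c μ ν a b).mulVec (fun j : Fin (b - a) => v (a + j)) i = op c μ ν v (a + i) := by
  simp only [Matrix.mulVec, dotProduct, mat, Matrix.of_apply, add_mul, ite_mul, zero_mul, Finset.sum_add_distrib,
    Fin.sum_univ_eq_sum_range (fun j => if j + 1 = (i : ℕ) then cA c (a + j) * v (a + j) else 0),
    Fin.sum_univ_eq_sum_range (fun j => if j = (i : ℕ) then cB c μ ν (a + j) * v (a + j) else 0),
    Fin.sum_univ_eq_sum_range (fun j => if j = (i : ℕ) + 1 then cC c μ ν (a + j) * v (a + j) else 0),
    Finset.sum_ite_eq', Finset.mem_range, op]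
  have hi := i.isLt
  rw [if_pos hi]
  congr 1
  · congr 1
    by_cases h0 : (i : ℕ) = 0
    · rw [Finset.sum_eq_zero fun j _ => if_neg (by omega)]
      by_cases ha : a = 0
      · rw [if_pos (by omega)]
      · rw [if_neg (by omega), hv (a + i - 1) (by omega), mul_zero]
    · rw [Finset.sum_eq_single ((i : ℕ) - 1), if_pos (by omega), if_neg (by omega), show a + (i : ℕ) - 1 = a + ((i : ℕ) - 1) by omega]
      · intro j _ hj; rw [if_neg (by omega)]
      · intro h; exact absurd (Finset.mem_range.2 (by omega)) h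
  · split_ifs with h
    · rw [show a + ((i : ℕ) + 1) = a + i + 1 by omega]
    · rw [hv (a + i + 1) (by omega), mul_zero]

/-- a vector on the interval as a sequence -/
def ext (a b : ℕ) (w : Fin (b - a) → k) (j : ℕ) : k :=
  if h : a ≤ j ∧ j < b then w ⟨j - a, by omega⟩ else 0

theorem supp_ext (a b : ℕ) (w : Fin (b - a) → k) : Supp a b (ext a b w) := fun _ hj => dif_neg hj

theorem ext_apply (a b : ℕ) (w : Fin (b - a) → k) (i : Fin (b - a)) : ext a b w (a + i) = w i := by
  have hi := i.isLt
  rw [ext, dif_pos (by omega)]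
  exact congrArg w (Fin.ext (by simp))

variable {K : Type v} [Field K] (μ' ν' : K)

theorem det_eq_zero_iff (a b : ℕ) (q : K) :
    (Matrix.scalar (Fin (b - a)) q - mat c μ' ν' a b).det = 0 ↔ Sp c μ' ν' a b q := by
  rw [← Matrix.exists_mulVec_eq_zero_iff]
  constructor
  · rintro ⟨w, hw, hw0⟩
    refine ⟨ext a b w, ⟨supp_ext a b w, fun j hj1 hj2 => ?_⟩, fun h => hw (funext fun i => by
      rw [← ext_apply a b w i, h]; rfl)⟩
    obtain ⟨i, rfl⟩ : ∃ i : Fin (b - a), j = a + i := ⟨⟨j - a, by omega⟩, by simp; omega⟩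
    have h := congrFun hw0 i
    rw [Matrix.sub_mulVec, Pi.sub_apply, Pi.zero_apply, sub_eq_zero, Matrix.scalar_apply, Matrix.mulVec_diagonal,
      show w = fun j : Fin (b - a) => ext a b w (a + j) from funext fun j => (ext_apply a b w j).symm,
      mat_mulVec c μ' ν' a b _ (supp_ext a b w)] at h
    exact h.symm
  · rintro ⟨v, ⟨hv, hop⟩, hv0⟩
    refine ⟨fun i => v (a + i), fun h => hv0 (funext fun j => ?_), funext fun i => ?_⟩
    · by_cases hj : a ≤ j ∧ j < b
      · have := congrFun h ⟨j - a, by omega⟩
        simpa [show a + (j - a) = j by omega] using this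
      · exact hv j hj
    · rw [Matrix.sub_mulVec, Pi.sub_apply, Matrix.scalar_apply, Matrix.mulVec_diagonal,
        mat_mulVec c μ' ν' a b v hv i, hop _ (by omega) (by have := i.isLt; omega)]
      simp

theorem eval_charpoly_eq_zero_iff (a b : ℕ) (q : K) :
    (mat c μ' ν' a b).charpoly.eval q = 0 ↔ Sp c μ' ν' a b q := by
  rw [Matrix.eval_charpoly, det_eq_zero_iff]

theorem exists_solve {a b : ℕ} {q : K} (h : ¬ Sp c μ' ν' a b q) (t : ℕ → K) :
    ∃ v, Supp a b v ∧ ∀ j, a ≤ j → j < b → op c μ' ν' v j - q * v j = t j := by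
  rw [← det_eq_zero_iff] at h
  obtain ⟨w, hw⟩ := (Matrix.mulVec_surjective_iff_isUnit.2
    ((Matrix.isUnit_iff_isUnit_det _).2 (isUnit_iff_ne_zero.2 h))) (fun i => - t (a + i))
  refine ⟨ext a b w, supp_ext a b w, fun j hj1 hj2 => ?_⟩
  obtain ⟨i, rfl⟩ : ∃ i : Fin (b - a), j = a + i := ⟨⟨j - a, by omega⟩, by simp; omega⟩
  have h := congrFun hw i
  rw [Matrix.sub_mulVec, Pi.sub_apply, Matrix.scalar_apply, Matrix.mulVec_diagonal,
    show w = fun j : Fin (b - a) => ext a b w (a + j) from funext fun j => (ext_apply a b w j).symm,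
    mat_mulVec c μ' ν' a b _ (supp_ext a b w)] at h
  linear_combination -h

end Groth.L03.Heun
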